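import Cfsg.Agent.Lib.E8Cent.Local
import Cfsg.Agent.Lib.Block.SubsectionApps
import Cfsg.Agent.Lib.Block.PrincipalSums
import Cfsg.Agent.Lib.Block.RegInt
import Cfsg.Agent.Lib.Char.Formulas
import Cfsg.Agent.Lib.Char.Linear
import Mathlib.GroupTheory.SpecificGroups.Cyclic
import Mathlib.RingTheory.RootsOfUnity.Complex

/-!
# The principal two-block of a two-constrained centralizer
-/

set_option autoImplicit false
set_option linter.unusedSectionVars false
set_option linter.style.haveILetI false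

namespace Cfsg.Lib.E8Cent

open Cfsg Cfsg.Lib.Block
open scoped ComplexConjugate

universe u

variable {C : Type u} [Group C] [Fintype C] {M : Ideal AlgInt} (hM : IsPModular 2 M)
  {O : Subgroup C} [O.Normal] (hOdd : ¬ 2 ∣ Nat.card O) {Q : Subgroup (C ⧸ O)} [Q.Normal]
  (hQ2 : IsPGroup 2 Q) (hQc : Subgroup.centralizer (Q : Set (C ⧸ O)) ≤ Q)

include hM hOdd hQ2 hQc in
theorem principalBlock_eq :
    principalBlock M C = {χ : IrrCharacter C | ∀ n ∈ O, (χ : C → ℂ) n = (χ : C → ℂ) 1} := by
  classical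
  haveI : Fact (Nat.Prime 2) := ⟨Nat.prime_two⟩
  haveI := Fintype.ofFinite (C ⧸ O)
  refine Set.Subset.antisymm (fun χ hχ => principal_trivial_on hM hOdd hχ) fun χ hχ => ?_
  obtain ⟨ψ, hψ, hψv⟩ := Char.exists_deflate_irr O χ.2 hχ
  have hψP : (⟨ψ, hψ⟩ : IrrCharacter (C ⧸ O)) ∈ principalBlock M (C ⧸ O) :=
    sameBlock_symm hM (mem_principal_of_centralizer_le hM hQ2 hQc ⟨ψ, hψ⟩)
  rw [mem_principal_iff_regSum hM] at hψP ⊢
  intro h0
  apply hψP
  have e : ∑ g, pRegularPart 2 (χ : C → ℂ) g =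
      (Nat.card O : ℂ) * ∑ q, pRegularPart 2 ψ q := by
    rw [← Finset.sum_fiberwise Finset.univ (fun g : C => (g : C ⧸ O)), Finset.mul_sum]
    refine Finset.sum_congr rfl fun q _ => ?_
    rw [Finset.sum_congr rfl (g := fun _ => pRegularPart 2 ψ q) fun g hg => by
      have hq : (g : C ⧸ O) = q := (Finset.mem_filter.1 hg).2
      subst hq
      by_cases h : IsPRegular 2 g
      · rw [pRegularPart_of_reg h, pRegularPart_of_reg ((isPRegular_mk_iff O hOdd g).2 h), hψv]
      · rw [pRegularPart_of_sing h,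
          pRegularPart_of_sing (fun h' => h ((isPRegular_mk_iff O hOdd g).1 h'))],
      Finset.sum_const, nsmul_eq_mul]
    congr 2
    induction q using QuotientGroup.induction_on with
    | H c =>
      rw [← Fintype.card_subtype, ← Nat.card_eq_fintype_card]
      exact Nat.card_congr
        { toFun := fun g => ⟨c⁻¹ * g.1, by
            have := g.2
            rw [eq_comm, QuotientGroup.eq] at this
            exact this⟩
          invFun := fun n => ⟨c * n, by simp [QuotientGroup.eq]⟩
          left_inv := fun g => Subtype.ext (mul_inv_cancel_left _ _)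
          right_inv := fun n => Subtype.ext (inv_mul_cancel_left _ _) }
  rw [e] at h0
  exact (mul_eq_zero.1 h0).resolve_left (Nat.cast_ne_zero.2 Nat.card_pos.ne')

include hM hOdd hQ2 hQc in
theorem regKer_principal (y y' : C) [Decidable (IsConj (y : C ⧸ O) (y' : C ⧸ O))] :
    regKer (principalBlock M C) y y' =
      if IsConj (y : C ⧸ O) (y' : C ⧸ O) then
        (Nat.card (Subgroup.centralizer ({(y : C ⧸ O)} : Set (C ⧸ O))) : ℂ) else 0 := by
  classical
  haveI := Fintype.ofFinite (C ⧸ O)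
  rw [← Char.column_orthogonality, regKer]
  refine (Finset.sum_bij (fun ψ _ => (Char.irrQuotientEquiv O ψ).1) (fun ψ _ => ?_)
    (fun a _ b _ h => (Char.irrQuotientEquiv O).injective (Subtype.ext h)) (fun χ hχ => ?_)
    (fun ψ _ => rfl)).symm
  · rw [Set.mem_toFinset, principalBlock_eq hM hOdd hQ2 hQc]; exact (Char.irrQuotientEquiv O ψ).2
  · rw [Set.mem_toFinset, principalBlock_eq hM hOdd hQ2 hQc] at hχ
    exact ⟨(Char.irrQuotientEquiv O).symm ⟨χ, hχ⟩, Finset.mem_univ _, by simp⟩

include hM hOdd hQ2 hQc in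
open Classical in
theorem blockCoeff_principal (k : C) :
    blockCoeff (principalBlock M C) k = if k ∈ O then (Nat.card O : ℂ)⁻¹ else 0 := by
  haveI := Fintype.ofFinite (C ⧸ O)
  have h : blockCoeff (principalBlock M C) k =
      (Nat.card C : ℂ)⁻¹ * regKer (principalBlock M C) 1 k := by
    rw [blockCoeff, regKer, finsum_mem_eq_toFinset_sum]
  rw [h, regKer_principal hM hOdd hQ2 hQc]
  have hiff : IsConj ((1 : C) : C ⧸ O) (k : C ⧸ O) ↔ k ∈ O := by
    rw [QuotientGroup.mk_one, isConj_one_right, QuotientGroup.eq_one_iff]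
  have hcen : Subgroup.centralizer ({((1 : C) : C ⧸ O)} : Set (C ⧸ O)) = ⊤ :=
    eq_top_iff.2 fun q _ => Subgroup.mem_centralizer_singleton_iff.2 (by simp)
  rw [hcen, Subgroup.card_top]
  split_ifs with h1 h2 h2
  · have := Subgroup.card_eq_card_quotient_mul_card_subgroup O
    rw [this, Nat.cast_mul, mul_inv, mul_right_comm, inv_mul_cancel₀
      (Nat.cast_ne_zero.2 Nat.card_pos.ne'), one_mul]
  · exact absurd (hiff.1 h1) h2
  · exact absurd (hiff.2 h2) h1
  · rw [mul_zero]

end Cfsg.Lib.E8Cent
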