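import Mathlib.Algebra.Order.BigOperators.Group.Finset
import Mathlib.Algebra.BigOperators.Fin
import Mathlib.Data.Rat.Cast.Order
import Mathlib.Tactic.FieldSimp
import Mathlib.Tactic.IntervalCases
import Mathlib.Tactic.LinearCombination
import Mathlib.Tactic.Positivity
import Mathlib.Tactic.Ring
import Mathlib.Tactic.Linarith
import Mathlib.Tactic.NormNum
import Mathlib.Data.Fintype.Card

/-!
# The arithmetic of three columns of norm four

The columns of the principal two-block of a group with elementary abelian Sylow 2-subgroup of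
order eight at an involution whose centralizer is `2 × A₄` modulo its odd core are inconsistent
with a perfect group.
-/

set_option autoImplicit false
set_option linter.unusedSectionVars false

namespace Cfsg.Lib.E8Cent

variable {ι : Type*} [Fintype ι] [DecidableEq ι]

theorem abs_le_one_of_norm_four {e f : ι → ℤ} (hn : ∑ i, e i ^ 2 = 4) (ho : ∑ i, f i * e i = 0)
    (hf : ∀ i, 0 < f i) (i : ι) : e i = -1 ∨ e i = 0 ∨ e i = 1 := by
  by_contra h
  have h4 : 4 ≤ e i ^ 2 := by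
    rcases le_or_gt (e i) 0 with h' | h'
    · nlinarith [show e i ≤ -2 by omega]
    · nlinarith [show 2 ≤ e i by omega]
  have hsplit := Finset.add_sum_erase Finset.univ (fun k => e k ^ 2) (Finset.mem_univ i)
  have hnn : 0 ≤ ∑ k ∈ Finset.univ.erase i, e k ^ 2 := Finset.sum_nonneg fun k _ => sq_nonneg _
  have hz : ∑ k ∈ Finset.univ.erase i, e k ^ 2 = 0 := by linarith
  have h0 : ∀ k, k ≠ i → e k = 0 := fun k hk =>
    eq_zero_of_pow_eq_zero ((Finset.sum_eq_zero_iff_of_nonneg fun k _ => sq_nonneg _).1 hz k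
      (Finset.mem_erase.2 ⟨hk, Finset.mem_univ k⟩))
  rw [Finset.sum_eq_single i (fun k _ hk => by rw [h0 k hk, mul_zero])
    (fun h => absurd (Finset.mem_univ i) h), mul_eq_zero] at ho
  rcases ho with h1 | h1
  · exact (hf i).ne' h1
  · rw [h1] at h4; norm_num at h4

set_option maxHeartbeats 800000 in
/-- The combinatorial contradiction. -/
theorem false_of_columns (d : Fin 3 → ι → ℤ) (f : ι → ℤ) (σ : ι → ι) (o : ι)
    (hσ : ∀ i, σ (σ i) = i) (hσ0 : ∀ i, d 0 (σ i) = d 0 i) (hσ1 : ∀ i, d 1 (σ i) = d 2 i)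
    (hσf : ∀ i, f (σ i) = f i)
    (hn : ∀ j, ∑ i, d j i ^ 2 = 4) (hp : ∀ j k, j ≠ k → ∑ i, d j i * d k i = 2)
    (hdeg : ∀ j, ∑ i, f i * d j i = 0) (hf : ∀ i, 0 < f i)
    (h8 : ∀ i, 8 ∣ f i + 7 * (d 0 i + d 1 i + d 2 i))
    (hge : ∀ i, 0 ≤ f i + 7 * (d 0 i + d 1 i + d 2 i))
    (hof : f o = 1) (ho0 : d 0 o = 1) (ho1 : d 1 o = 0) (ho2 : d 2 o = 0)
    (hlin : ∀ i, f i = 1 → i = o)
    (heq : ∑ i, ((d 0 i + d 1 i + d 2 i : ℤ) : ℚ) ^ 2 * ((d 0 i - d 1 i : ℤ) : ℚ) / (f i : ℚ) = 0) :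
    False := by
  have hd : ∀ j i, d j i = -1 ∨ d j i = 0 ∨ d j i = 1 := fun j =>
    abs_le_one_of_norm_four (hn j) (hdeg j) hf
  have hdd : ∀ j k, j ≠ k → ∀ i, d j i - d k i = -1 ∨ d j i - d k i = 0 ∨ d j i - d k i = 1 := by
    intro j k hjk
    refine abs_le_one_of_norm_four ?_ ?_ hf
    · have e : ∀ i, (d j i - d k i) ^ 2 = d j i ^ 2 + d k i ^ 2 - 2 * (d j i * d k i) :=
        fun i => by ring
      simp only [e, Finset.sum_sub_distrib, Finset.sum_add_distrib, ← Finset.mul_sum, hn,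
        hp j k hjk]
      norm_num
    · simp only [mul_sub, Finset.sum_sub_distrib, hdeg, sub_self]
  have hsame : ∀ j k i, d j i ≠ 0 → d k i ≠ 0 → d j i = d k i := by
    intro j k i h1 h2
    by_cases hjk : j = k
    · rw [hjk]
    · rcases hd j i with a | a | a <;> rcases hd k i with b | b | b <;>
        rcases hdd j k hjk i with c | c | c <;> omega
  set P : Fin 3 → Finset ι := fun j => Finset.univ.filter fun i => d j i ≠ 0 with hP
  have hmem : ∀ {j i}, i ∈ P j ↔ d j i ≠ 0 := fun {j i} => by simp [hP]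
  have hzero : ∀ {j i}, i ∉ P j → d j i = 0 := fun {j i} h => by
    by_contra h'; exact h (hmem.2 h')
  have hcard : ∀ j, (P j).card = 4 := by
    intro j
    have e : ∀ i, d j i ^ 2 = if i ∈ P j then 1 else 0 := by
      intro i
      rcases hd j i with a | a | a <;> simp [hmem, a]
    have h := hn j
    simp only [e, Finset.sum_boole, Finset.filter_mem_eq_inter, Finset.univ_inter] at h
    exact_mod_cast h
  have hinter : ∀ j k, j ≠ k → (P j ∩ P k).card = 2 := by
    intro j k hjk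
    have e : ∀ i, d j i * d k i = if i ∈ P j ∩ P k then 1 else 0 := by
      intro i
      by_cases h1 : d j i = 0
      · simp [hmem, h1]
      by_cases h2 : d k i = 0
      · simp [hmem, h2]
      rw [if_pos (Finset.mem_inter.2 ⟨hmem.2 h1, hmem.2 h2⟩), ← hsame j k i h1 h2]
      rcases hd j i with a | a | a
      · rw [a]; norm_num
      · exact absurd a h1
      · rw [a]; norm_num
    have h := hp j k hjk
    simp only [e, Finset.sum_boole, Finset.filter_mem_eq_inter, Finset.univ_inter] at h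
    exact_mod_cast h
  have hsum : ∀ j, ∀ s : Finset ι, P j ⊆ s → ∑ i ∈ s, f i * d j i = 0 := fun j s hs => by
    rw [Finset.sum_subset (Finset.subset_univ s) fun i _ hi => by
      rw [hzero (fun h => hi (hs h)), mul_zero]]
    exact hdeg j
  have hinv : ∀ {j i}, i ∈ P j → (d j i : ℚ) / (f i : ℚ) = 1 / ((f i * d j i : ℤ) : ℚ) := by
    intro j i hi
    have : ((f i : ℤ) : ℚ) ≠ 0 := Int.cast_ne_zero.2 (hf i).ne'
    rcases hd j i with a | a | a
    · rw [a]; push_cast; field_simp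
    · exact absurd a (hmem.1 hi)
    · rw [a]; simp
  have hunit : ∀ {j i}, i ∈ P j → f i * d j i = 1 ∨ f i * d j i = -1 → i = o := by
    intro j i hi h
    refine hlin i ?_
    have := hf i
    rcases hd j i with a | a | a <;> rw [a] at h <;> first | omega | exact absurd a (hmem.1 hi)
  have hoP : o ∈ P 0 := hmem.2 (by rw [ho0]; norm_num)
  set K := P 0 ∩ P 1 with hK
  set K' := P 0 ∩ P 2 with hK'
  have hKc : K.card = 2 := hinter 0 1 (by decide)
  have hK'c : K'.card = 2 := hinter 0 2 (by decide)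
  have hoK : o ∉ K := fun h => hmem.1 (Finset.mem_inter.1 h).2 ho1
  have hoK' : o ∉ K' := fun h => hmem.1 (Finset.mem_inter.1 h).2 ho2
  have hσK : ∀ i ∈ K, σ i ∈ K' := fun i hi => by
    simp only [hK, hK', Finset.mem_inter, hmem] at hi ⊢
    refine ⟨by rw [hσ0]; exact hi.1, ?_⟩
    rw [← hσ1, hσ]; exact hi.2
  have hσK' : ∀ i ∈ K', σ i ∈ K := fun i hi => by
    simp only [hK, hK', Finset.mem_inter, hmem] at hi ⊢
    exact ⟨by rw [hσ0]; exact hi.1, by rw [hσ1]; exact hi.2⟩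
  have h12 : (P 1 ∩ P 2).card = 2 := hinter 1 2 (by decide)
  by_cases hKK : K = K'
  · -- both common pairs coincide
    obtain ⟨T, T', hTT, hKeq⟩ := Finset.card_eq_two.1 hKc
    have hTK : T ∈ K := by simp [hKeq]
    have hT'K : T' ∈ K := by simp [hKeq]
    obtain ⟨hT0, hT1⟩ := Finset.mem_inter.1 hTK
    obtain ⟨hT'0, hT'1⟩ := Finset.mem_inter.1 hT'K
    have hU : ((P 0 \ K).erase o).card = 1 := by
      rw [Finset.card_erase_of_mem (Finset.mem_sdiff.2 ⟨hoP, hoK⟩),
        Finset.card_sdiff_of_subset Finset.inter_subset_left, hcard, hKc]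
    obtain ⟨U, hUeq⟩ := Finset.card_eq_one.1 hU
    obtain ⟨hUo, hU'⟩ := Finset.mem_erase.1 (hUeq ▸ Finset.mem_singleton_self U)
    obtain ⟨hU0, hUK⟩ := Finset.mem_sdiff.1 hU'
    have hU1 : U ∉ P 1 := fun h => hUK (Finset.mem_inter.2 ⟨hU0, h⟩)
    have hU2 : U ∉ P 2 := fun h => hUK (hKK ▸ Finset.mem_inter.2 ⟨hU0, h⟩)
    have hK12 : P 1 ∩ P 2 = K := (Finset.eq_of_subset_of_card_le (fun i hi =>
      Finset.mem_inter.2 ⟨(Finset.mem_inter.1 hi).2, (Finset.mem_inter.1 (show i ∈ K' from hKK ▸ hi)).2⟩)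
        (by rw [h12, hKc])).symm
    have hB : (P 1 \ K).card = 2 := by
      rw [Finset.card_sdiff_of_subset Finset.inter_subset_right, hcard, hKc]
    obtain ⟨B, B', hBB, hBeq⟩ := Finset.card_eq_two.1 hB
    obtain ⟨hB1, hBK⟩ := Finset.mem_sdiff.1 (hBeq ▸ by simp : B ∈ P 1 \ K)
    obtain ⟨hB'1, hB'K⟩ := Finset.mem_sdiff.1 (hBeq ▸ by simp : B' ∈ P 1 \ K)
    have hB0 : B ∉ P 0 := fun h => hBK (Finset.mem_inter.2 ⟨h, hB1⟩)
    have hB'0 : B' ∉ P 0 := fun h => hB'K (Finset.mem_inter.2 ⟨h, hB'1⟩)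
    have hB2 : B ∉ P 2 := fun h => hBK (hK12 ▸ Finset.mem_inter.2 ⟨hB1, h⟩)
    have hB'2 : B' ∉ P 2 := fun h => hB'K (hK12 ▸ Finset.mem_inter.2 ⟨hB'1, h⟩)
    have hoB : o ≠ B := fun h => hB0 (h ▸ hoP)
    have hoB' : o ≠ B' := fun h => hB'0 (h ▸ hoP)
    have hUB : U ≠ B := fun h => hB0 (h ▸ hU0)
    have hUB' : U ≠ B' := fun h => hB'0 (h ▸ hU0)
    have hUT : U ≠ T := fun h => hUK (h ▸ hTK)
    have hUT' : U ≠ T' := fun h => hUK (h ▸ hT'K)
    have hoT : o ≠ T := fun h => hoK (h ▸ hTK)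
    have hoT' : o ≠ T' := fun h => hoK (h ▸ hT'K)
    have hBT : B ≠ T := fun h => hBK (h ▸ hTK)
    have hBT' : B ≠ T' := fun h => hBK (h ▸ hT'K)
    have hB'T : B' ≠ T := fun h => hB'K (h ▸ hTK)
    have hB'T' : B' ≠ T' := fun h => hB'K (h ▸ hT'K)
    have hP0 : P 0 = {o, U, T, T'} := (Finset.eq_of_subset_of_card_le
      (by simp [Finset.insert_subset_iff, hoP, hU0, hT0, hT'0])
      (by rw [hcard]; simp [Ne.symm hUo, hoT, hoT', hUT, hUT', hTT])).symm
    have hP1 : P 1 = {B, B', T, T'} := (Finset.eq_of_subset_of_card_le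
      (by simp [Finset.insert_subset_iff, hB1, hB'1, hT1, hT'1])
      (by rw [hcard]; simp [hBB, hBT, hBT', hB'T, hB'T', hTT])).symm
    have e0 := hsum 0 _ hP0.le
    have e1 := hsum 1 _ hP1.le
    rw [Finset.sum_insert (by simp [Ne.symm hUo, hoT, hoT']),
      Finset.sum_insert (by simp [hUT, hUT']), Finset.sum_pair hTT] at e0
    rw [Finset.sum_insert (by simp [hBB, hBT, hBT']),
      Finset.sum_insert (by simp [hB'T, hB'T']), Finset.sum_pair hTT] at e1
    rw [hof, ho0, one_mul, hsame 0 1 T (hmem.1 hT0) (hmem.1 hT1),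
      hsame 0 1 T' (hmem.1 hT'0) (hmem.1 hT'1)] at e0
    have hsupp : ∀ i, i ∉ ({o, U, B, B'} : Finset ι) → d 0 i - d 1 i = 0 := by
      intro i hi
      simp only [Finset.mem_insert, Finset.mem_singleton, not_or] at hi
      by_cases h : i = T ∨ i = T'
      · rcases h with rfl | rfl
        · rw [hsame 0 1 _ (hmem.1 hT0) (hmem.1 hT1), sub_self]
        · rw [hsame 0 1 _ (hmem.1 hT'0) (hmem.1 hT'1), sub_self]
      · push Not at h
        rw [hzero (j := 0) (by rw [hP0]; simp [hi.1, hi.2.1, h.1, h.2]),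
          hzero (j := 1) (by rw [hP1]; simp [hi.2.2.1, hi.2.2.2, h.1, h.2]), sub_self]
    rw [← Finset.sum_subset (Finset.subset_univ ({o, U, B, B'} : Finset ι))
      (fun i _ hi => by rw [hsupp i hi, Int.cast_zero, mul_zero, zero_div]),
      Finset.sum_insert (by simp [Ne.symm hUo, hoB, hoB']),
      Finset.sum_insert (by simp [hUB, hUB']), Finset.sum_pair hBB] at heq
    rw [ho0, ho1, ho2, hof, hzero hU1, hzero hU2, hzero hB0, hzero hB2, hzero hB'0,
      hzero hB'2] at heq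
    have sq1 : ∀ {j i}, i ∈ P j → (d j i : ℚ) ^ 2 = 1 := by
      intro j i hi
      rcases hd j i with a | a | a
      · rw [a]; norm_num
      · exact absurd a (hmem.1 hi)
      · rw [a]; norm_num
    push_cast at heq
    simp only [zero_add, add_zero, sub_zero, zero_sub, mul_neg, neg_div, sq1 hU0, sq1 hB1,
      sq1 hB'1, one_mul, one_pow, div_one, hinv hU0, hinv hB1, hinv hB'1] at heq
    obtain ⟨u, hu⟩ : ∃ u : ℤ, u = f U * d 0 U := ⟨_, rfl⟩
    obtain ⟨b, hb⟩ : ∃ b : ℤ, b = f B * d 1 B := ⟨_, rfl⟩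
    obtain ⟨b', hb'⟩ : ∃ b' : ℤ, b' = f B' * d 1 B' := ⟨_, rfl⟩
    rw [← hu, ← hb, ← hb'] at heq
    rw [← hu] at e0
    rw [← hb, ← hb'] at e1
    have hu0 : u ≠ 0 := hu ▸ mul_ne_zero (hf U).ne' (hmem.1 hU0)
    have hb0 : b ≠ 0 := hb ▸ mul_ne_zero (hf B).ne' (hmem.1 hB1)
    have hb'0 : b' ≠ 0 := hb' ▸ mul_ne_zero (hf B').ne' (hmem.1 hB'1)
    have hum : u ≠ -1 := fun h => hUo (hunit hU0 (Or.inr (hu ▸ h)))
    have hub : (u + 1) * (b * b') = (b + b') * u := by
      have : (((u + 1) * (b * b') : ℤ) : ℚ) = (((b + b') * u : ℤ) : ℚ) := by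
        have q1 : (u : ℚ) ≠ 0 := Int.cast_ne_zero.2 hu0
        have q2 : (b : ℚ) ≠ 0 := Int.cast_ne_zero.2 hb0
        have q3 : (b' : ℚ) ≠ 0 := Int.cast_ne_zero.2 hb'0
        field_simp at heq
        push_cast
        linarith
      exact_mod_cast this
    have hbs : b + b' = 1 + u := by linarith
    have hprod : b * b' = u := by
      rw [hbs] at hub
      have : (u + 1) * (b * b' - u) = 0 := by linarith
      rcases mul_eq_zero.1 this with h | h
      · exact absurd (by omega) hum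
      · omega
    have : (b - 1) * (b' - 1) = 0 := by linear_combination hprod - hbs
    rcases mul_eq_zero.1 this with h | h
    · exact hoB (hunit hB1 (Or.inl (by rw [← hb]; omega))).symm
    · exact hoB' (hunit hB'1 (Or.inl (by rw [← hb']; omega))).symm
  · -- the common pairs differ
    have hsub : K ∪ K' ⊆ (P 0).erase o := fun i hi => by
      refine Finset.mem_erase.2 ⟨fun h => ?_, ?_⟩
      · subst h; exact (Finset.mem_union.1 hi).elim hoK hoK'
      · exact (Finset.mem_union.1 hi).elim (fun h => (Finset.mem_inter.1 h).1)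
          (fun h => (Finset.mem_inter.1 h).1)
    have hint : (K ∩ K').card = 1 := by
      have h1 := Finset.card_le_card hsub
      rw [Finset.card_erase_of_mem hoP, hcard] at h1
      have h2 := Finset.card_union_add_card_inter K K'
      rw [hKc, hK'c] at h2
      have h3 : (K ∩ K').card ≠ 2 := fun h => hKK ((Finset.eq_of_subset_of_card_le
        Finset.inter_subset_left (by rw [h, hKc])).symm.trans (Finset.eq_of_subset_of_card_le
        Finset.inter_subset_right (by rw [h, hK'c])))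
      have h4 : (K ∩ K').card ≤ 2 := hKc ▸ Finset.card_le_card Finset.inter_subset_left
      omega
    obtain ⟨T, hTeq⟩ := Finset.card_eq_one.1 hint
    obtain ⟨hTK, hTK'⟩ := Finset.mem_inter.1 (hTeq ▸ Finset.mem_singleton_self T)
    obtain ⟨A, hAeq⟩ := Finset.card_eq_one.1 (by
      rw [Finset.card_erase_of_mem hTK, hKc] : (K.erase T).card = 1)
    obtain ⟨hAT, hAK⟩ := Finset.mem_erase.1 (hAeq ▸ Finset.mem_singleton_self A)
    have huniq : ∀ i, i ∈ K → i ∈ K' → i = T := fun i h1 h2 =>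
      Finset.mem_singleton.1 (hTeq ▸ Finset.mem_inter.2 ⟨h1, h2⟩)
    have hσT : σ T = T := huniq _ (hσK' T hTK') (hσK T hTK)
    set B := σ A with hBdef
    have hBK' : B ∈ K' := hσK A hAK
    have hBT : B ≠ T := fun h => hAT (by rw [← hσ A, ← hBdef, h, hσT])
    have hAK' : A ∉ K' := fun h => hAT (huniq A hAK h)
    have hBK : B ∉ K := fun h => hBT (huniq B h hBK')
    obtain ⟨hA0, hA1⟩ := Finset.mem_inter.1 hAK
    obtain ⟨hB0, hB2⟩ := Finset.mem_inter.1 hBK'
    obtain ⟨hT0, hT1⟩ := Finset.mem_inter.1 hTK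
    have hT2 : T ∈ P 2 := (Finset.mem_inter.1 hTK').2
    have hA2 : A ∉ P 2 := fun h => hAK' (Finset.mem_inter.2 ⟨hA0, h⟩)
    have hB1 : B ∉ P 1 := fun h => hBK (Finset.mem_inter.2 ⟨hB0, h⟩)
    have hAB : A ≠ B := fun h => hAK' (h ▸ hBK')
    have hoA : o ≠ A := fun h => hoK (h ▸ hAK)
    have hoB : o ≠ B := fun h => hoK' (h ▸ hBK')
    have hoT : o ≠ T := fun h => hoK (h ▸ hTK)
    obtain ⟨D, hDeq⟩ := Finset.card_eq_one.1 (by
      rw [Finset.card_erase_of_mem (Finset.mem_inter.2 ⟨hT1, hT2⟩), h12] :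
        ((P 1 ∩ P 2).erase T).card = 1)
    obtain ⟨hDT, hD12⟩ := Finset.mem_erase.1 (hDeq ▸ Finset.mem_singleton_self D)
    obtain ⟨hD1, hD2⟩ := Finset.mem_inter.1 hD12
    have hD0 : D ∉ P 0 := fun h =>
      hDT (huniq D (Finset.mem_inter.2 ⟨h, hD1⟩) (Finset.mem_inter.2 ⟨h, hD2⟩))
    have hDA : D ≠ A := fun h => hD0 (h ▸ hA0)
    obtain ⟨E, hEeq⟩ := Finset.card_eq_one.1 (by
      rw [Finset.card_erase_of_mem (by simp [hDT, hDA, hD1]),
        Finset.card_erase_of_mem (by simp [Ne.symm hAT, hT1]),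
        Finset.card_erase_of_mem hA1, hcard] : ((((P 1).erase A).erase T).erase D).card = 1)
    have hEm := hEeq ▸ Finset.mem_singleton_self E
    simp only [Finset.mem_erase] at hEm
    obtain ⟨hED, hET, hEA, hE1⟩ := hEm
    have hE0 : E ∉ P 0 := fun h => by
      rcases eq_or_ne E T with h' | h'
      · exact hET h'
      · exact hEA (Finset.mem_singleton.1 (hAeq ▸ Finset.mem_erase.2
          ⟨h', Finset.mem_inter.2 ⟨h, hE1⟩⟩))
    have hE2 : E ∉ P 2 := fun h => hED (Finset.mem_singleton.1 (hDeq ▸ Finset.mem_erase.2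
      ⟨hET, Finset.mem_inter.2 ⟨hE1, h⟩⟩))
    have hoD : o ≠ D := fun h => hD0 (h ▸ hoP)
    have hoE : o ≠ E := fun h => hE0 (h ▸ hoP)
    have hBD : B ≠ D := fun h => hD0 (h ▸ hB0)
    have hBE : B ≠ E := fun h => hE0 (h ▸ hB0)
    have hP0 : P 0 = {o, A, B, T} := (Finset.eq_of_subset_of_card_le
      (by simp [Finset.insert_subset_iff, hoP, hA0, hB0, hT0])
      (by rw [hcard]; simp [hoA, hoB, hoT, hAB, hAT, hBT])).symm
    have hP1 : P 1 = {A, T, D, E} := (Finset.eq_of_subset_of_card_le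
      (by simp [Finset.insert_subset_iff, hA1, hT1, hD1, hE1])
      (by rw [hcard]; simp [hAT, Ne.symm hDA, Ne.symm hEA, Ne.symm hDT, Ne.symm hET,
        Ne.symm hED])).symm
    have e0 := hsum 0 _ hP0.le
    have e1 := hsum 1 _ hP1.le
    rw [Finset.sum_insert (by simp [hoA, hoB, hoT]), Finset.sum_insert (by simp [hAB, hAT]),
      Finset.sum_pair hBT] at e0
    rw [Finset.sum_insert (by simp [hAT, Ne.symm hDA, Ne.symm hEA]),
      Finset.sum_insert (by simp [Ne.symm hDT, Ne.symm hET]),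
      Finset.sum_pair (Ne.symm hED)] at e1
    have hB : f B * d 0 B = f A * d 0 A := by rw [hBdef, hσf, hσ0]
    have hA10 : d 1 A = d 0 A := hsame 1 0 A (hmem.1 hA1) (hmem.1 hA0)
    have hT10 : d 1 T = d 0 T := hsame 1 0 T (hmem.1 hT1) (hmem.1 hT0)
    rw [hof, ho0, one_mul, hB] at e0
    rw [hA10, hT10] at e1
    have hsupp : ∀ i, i ∉ ({o, B, D, E} : Finset ι) → d 0 i - d 1 i = 0 := by
      intro i hi
      simp only [Finset.mem_insert, Finset.mem_singleton, not_or] at hi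
      by_cases h : i = A ∨ i = T
      · rcases h with rfl | rfl
        · rw [hA10, sub_self]
        · rw [hT10, sub_self]
      · push Not at h
        rw [hzero (j := 0) (by rw [hP0]; simp [hi.1, hi.2.1, h.1, h.2]),
          hzero (j := 1) (by rw [hP1]; simp [hi.2.2.1, hi.2.2.2, h.1, h.2]), sub_self]
    rw [← Finset.sum_subset (Finset.subset_univ ({o, B, D, E} : Finset ι))
      (fun i _ hi => by rw [hsupp i hi, Int.cast_zero, mul_zero, zero_div]),
      Finset.sum_insert (by simp [hoB, hoD, hoE]),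
      Finset.sum_insert (by simp [hBD, hBE]), Finset.sum_pair (Ne.symm hED)] at heq
    rw [ho0, ho1, ho2, hof, hzero hB1, hzero hD0, hzero hE0, hzero hE2,
      hsame 2 0 B (hmem.1 hB2) (hmem.1 hB0), hsame 2 1 D (hmem.1 hD2) (hmem.1 hD1)] at heq
    have sq1 : ∀ {j i}, i ∈ P j → (d j i : ℚ) ^ 2 = 1 := by
      intro j i hi
      rcases hd j i with a | a | a
      · rw [a]; norm_num
      · exact absurd a (hmem.1 hi)
      · rw [a]; norm_num
    have sq4 : ∀ {j i}, i ∈ P j → ((d j i : ℚ) + d j i) ^ 2 = 4 := fun hi => by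
      rw [← two_mul, mul_pow, sq1 hi]; norm_num
    push_cast at heq
    simp only [zero_add, add_zero, sub_zero, zero_sub, mul_neg, neg_div, sq4 hB0, sq4 hD1,
      sq1 hE1, one_mul, one_pow, div_one, mul_div_assoc, hinv hB0, hinv hD1, hinv hE1, hB] at heq
    obtain ⟨a, ha⟩ : ∃ a : ℤ, a = f A * d 0 A := ⟨_, rfl⟩
    obtain ⟨x, hx⟩ : ∃ x : ℤ, x = f D * d 1 D := ⟨_, rfl⟩
    obtain ⟨y, hy⟩ : ∃ y : ℤ, y = f E * d 1 E := ⟨_, rfl⟩
    rw [← ha, ← hx, ← hy] at heq
    rw [← ha] at e0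
    rw [← ha, ← hx, ← hy] at e1
    have hxy : x = 1 + a - y := by omega
    have hpoly : (a + 4) * (x * y) = a * (4 * y + x) := by
      have q1 : (a : ℚ) ≠ 0 := Int.cast_ne_zero.2 (ha ▸ mul_ne_zero (hf A).ne' (hmem.1 hA0))
      have q2 : (x : ℚ) ≠ 0 := Int.cast_ne_zero.2 (hx ▸ mul_ne_zero (hf D).ne' (hmem.1 hD1))
      have q3 : (y : ℚ) ≠ 0 := Int.cast_ne_zero.2 (hy ▸ mul_ne_zero (hf E).ne' (hmem.1 hE1))
      field_simp at heq
      have : (((a + 4) * (x * y) : ℤ) : ℚ) = ((a * (4 * y + x) : ℤ) : ℚ) := by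
        push_cast; linarith
      exact_mod_cast this
    have hy1 : y ≠ 1 := fun h => hoE (hunit hE1 (Or.inl (hy ▸ h))).symm
    have hfac : (y - 1) * ((a + 4) * y - a * (a + 1)) = 0 := by
      subst hxy; linear_combination -hpoly
    have h12 : (a + 4) * (y - a + 3) = 12 := by
      rcases mul_eq_zero.1 hfac with h | h
      · exact absurd (by omega) hy1
      · linear_combination h
    have hfA := hf A
    have h8A := h8 A
    have hgeA := hge A
    rw [hzero hA2, hA10] at h8A hgeA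
    have hdiv : (a + 4) ∣ 12 := ⟨_, h12.symm⟩
    have hle1 : a + 4 ≤ 12 := Int.le_of_dvd (by norm_num) hdiv
    have hle2 : -(a + 4) ≤ 12 := Int.le_of_dvd (by norm_num) (neg_dvd.2 hdiv)
    have hle3 : a ≤ 8 := by omega
    have hle4 : -16 ≤ a := by omega
    rcases hd 0 A with s | s | s
    · rw [s] at ha h8A hgeA
      obtain ⟨c, hc⟩ := h8A
      interval_cases a <;> first
        | omega
        | (norm_num at hdiv)
        | omega
    · exact hmem.1 hA0 s
    · rw [s] at ha h8A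
      obtain ⟨c, hc⟩ := h8A
      interval_cases a <;> first
        | omega
        | (norm_num at h12; omega)

end Cfsg.Lib.E8Cent
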