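import Cfsg.Agent.Lib.E8Cent.Block
import Cfsg.Agent.Lib.E8Cent.Comb
import Cfsg.Agent.Lib.Char.Galois
import Cfsg.Agent.Lib.Block.Contribution

/-!
# No perfect group has such an involution centralizer
-/

set_option autoImplicit false
set_option linter.unusedSectionVars false
set_option linter.style.haveILetI false
set_option maxHeartbeats 1000000

namespace Cfsg.Lib.E8Cent

open Cfsg Cfsg.Lib.Block
open scoped ComplexConjugate

universe u

theorem sum_pow_ne {w : ℂ} (hw3 : w ^ 3 = 1) (hwsum : 1 + w + w ^ 2 = 0) {j k : Fin 3}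
    (hjk : j ≠ k) :
    (w ^ (j : ℕ)) ^ 2 * w ^ (k : ℕ) + w ^ (j : ℕ) * (w ^ (k : ℕ)) ^ 2 = -1 := by
  fin_cases j <;> fin_cases k <;> simp at hjk ⊢
  all_goals first
    | linear_combination hwsum
    | linear_combination hwsum + w * hw3
    | linear_combination hwsum + (w + w ^ 2) * hw3

/-- The primitive cube roots of unity. -/
theorem exists_omega : ∃ w : ℂ, w ^ 3 = 1 ∧ 1 + w + w ^ 2 = 0 ∧ conj w = w ^ 2 := by
  have hw := Complex.isPrimitiveRoot_exp 3 (by norm_num)
  set w := Complex.exp (2 * Real.pi * Complex.I / (3 : ℕ)) with hwd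
  have h1 : w ^ 3 = 1 := hw.pow_eq_one
  have hne : w ≠ 1 := hw.ne_one (by norm_num)
  have h2 : 1 + w + w ^ 2 = 0 := by
    have : (w - 1) * (1 + w + w ^ 2) = 0 := by linear_combination h1
    exact (mul_eq_zero.1 this).resolve_left (sub_ne_zero.2 hne)
  refine ⟨w, h1, h2, ?_⟩
  have hn : ‖w‖ = 1 := Complex.norm_eq_one_of_pow_eq_one h1 (by norm_num)
  rw [← Complex.inv_eq_conj hn]
  exact inv_eq_of_mul_eq_one_right (by linear_combination h1)

theorem sum_comp_hom {A B : Type*} [Group A] [Group B] [Fintype A] [Fintype B] (φ : A →* B)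
    (hφ : Function.Surjective φ) (F : B → ℂ) :
    ∑ a, F (φ a) = (Nat.card φ.ker : ℂ) * ∑ b, F b := by
  classical
  rw [← Finset.sum_fiberwise Finset.univ φ, Finset.mul_sum]
  refine Finset.sum_congr rfl fun b _ => ?_
  rw [Finset.sum_congr rfl (g := fun _ => F b) fun a ha => by rw [(Finset.mem_filter.1 ha).2],
    Finset.sum_const, nsmul_eq_mul]
  congr 2
  rw [← Fintype.card_subtype, ← Nat.card_eq_fintype_card]
  obtain ⟨a, rfl⟩ := hφ b
  exact Nat.card_congr
    { toFun := fun x => ⟨a⁻¹ * x.1, by simp [MonoidHom.mem_ker, x.2]⟩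
      invFun := fun k => ⟨a * k, by simp [MonoidHom.mem_ker.1 k.2]⟩
      left_inv := fun x => Subtype.ext (mul_inv_cancel_left _ _)
      right_inv := fun k => Subtype.ext (inv_mul_cancel_left _ _) }

variable {G : Type u} [Group G] [Fintype G]

open Classical in
theorem false_of_coreData (hperf : commutator G = ⊤) (S : Sylow 2 G)
    (h8 : Nat.card (S : Subgroup G) = 8) {t : G} (ht : orderOf t = 2)
    (hS : ∀ s ∈ (S : Subgroup G), s ≠ 1 → IsConj t s)
    {C : Subgroup G} (hC : C = Subgroup.centralizer ({t} : Set G)) {O : Subgroup C} [O.Normal]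
    {tC : C} {Q : Subgroup (C ⧸ O)}
    (htC : (tC : G) = t) (hOdd : ¬ 2 ∣ Nat.card O) (D : CoreData O tC Q) : False := by
  haveI : Fact (Nat.Prime 2) := ⟨Nat.prime_two⟩
  haveI := D.normal
  obtain ⟨M, hM⟩ := exists_isPModular (q := 2) Nat.prime_two
  letI : Fintype C := Fintype.ofFinite C
  haveI := Fintype.ofFinite (C ⧸ O)
  obtain ⟨x, hxodd, hx3, hxO, h24, h6, hncj⟩ := D.exists_x hOdd
  have hu : ∃ k : ℕ, orderOf t = 2 ^ k := ⟨1, by rw [ht, pow_one]⟩
  have hmem : ∀ {g : G}, g ∈ C ↔ g * t = t * g := fun {g} => by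
    rw [hC, Subgroup.mem_centralizer_singleton_iff]
  have hHu : ∀ h : C, Commute t (h : G) := fun h => (hmem.1 h.2).symm
  set b0 := principalBlock M C with hb0
  set B := principalBlock M G with hB
  have hind : indSet M C B = b0 := indSet_principal hM hu hHu hC.ge
  have hindB : IsInducedBlock M C b0 B := by
    have h : trivChar C ∈ indSet M C B := by rw [hind]; exact trivChar_mem_principal hM
    have e := eq_blockOf_of_mem hM isPBlock_principal (trivChar_mem_principal (G := C) hM)
    rw [hb0, e]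
    exact h
  have hb0eq := principalBlock_eq hM hOdd D.two D.cent
  have hregC : ∀ y : C, IsPRegular 2 y → IsPRegular 2 (y : G) := fun y hy => by
    rwa [IsPRegular, orderOf_submonoid]
  have hreg : ∀ y : C, IsPRegular 2 (y : C ⧸ O) → IsPRegular 2 y := fun y hy =>
    (isPRegular_mk_iff O hOdd y).1 hy
  have hx3q : (x : C ⧸ O) ^ 3 = 1 := by
    rw [← QuotientGroup.mk_pow, QuotientGroup.eq_one_iff]; exact hx3
  have hxq1 : (x : C ⧸ O) ≠ 1 := fun h => hxO ((QuotientGroup.eq_one_iff _).1 h)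
  have hx2 : ((x ^ 2 : C) : C ⧸ O) = (x : C ⧸ O)⁻¹ := by
    rw [QuotientGroup.mk_pow]
    exact eq_inv_of_mul_eq_one_left (by rw [← pow_succ, hx3q])
  have hr0 : IsPRegular 2 (1 : C) := by simp [IsPRegular]
  have hr1 : IsPRegular 2 x := hxodd
  have hr2 : IsPRegular 2 (x ^ 2) := fun h => hxodd (h.trans (orderOf_pow_dvd 2))
  -- the values on the section of `t`
  set v : IrrCharacter G → C → ℂ := fun χ y => (χ : G → ℂ) (t * (y : G)) with hv
  have hconst : ∀ χ ∈ B, ∀ y y' : C, IsPRegular 2 y → IsPRegular 2 y' →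
      (y : C ⧸ O) = (y' : C ⧸ O) → v χ y = v χ y' := by
    intro χ hχ y y' hy hy' he
    have h : ∀ z : C, IsPRegular 2 z → v χ z =
        ∑ η ∈ b0.toFinset, classInner (secFn t C (χ : G → ℂ)) (η : C → ℂ) * (η : C → ℂ) z := by
      intro z hz
      have h1 := blockPart_indSet hM hu hHu hC.ge (B := B) isPBlock_principal χ hz
      rw [if_pos hχ, hind] at h1
      refine h1.symm.trans ?_
      simp only [blockPart, finsum_mem_eq_toFinset_sum]
    rw [h y hy, h y' hy']
    refine Finset.sum_congr rfl fun η hη => ?_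
    have hη' : ∀ n ∈ O, (η : C → ℂ) n = (η : C → ℂ) 1 := by
      have := Set.mem_toFinset.1 hη
      rw [hb0, hb0eq] at this
      exact this
    obtain ⟨ψ, -, hψ⟩ := Char.exists_deflate_irr O η.2 hη'
    rw [← hψ y, ← hψ y', he]
  have horth : ∀ y y' : C, IsPRegular 2 y → IsPRegular 2 y' →
      ∑ χ ∈ B.toFinset, v χ y * conj (v χ y') = regKer b0 y y' := by
    intro y y' hy hy'
    rw [← hind]
    exact sum_block_mul_conj hM hu hHu hC.ge isPBlock_principal hy hy'
  have hdegB : ∀ y : C, IsPRegular 2 y →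
      ∑ χ ∈ B.toFinset, (χ : G → ℂ) 1 * conj (v χ y) = 0 := by
    intro y hy
    rw [← finsum_mem_eq_toFinset_sum]
    refine sum_block_mul_conj_eq_zero hM (vInt_indVec hM isPBlock_principal) ?_
    rw [pPt_mul_reg hu (hHu y) (hregC y hy), (pPt_eq_one_iff (p := 2) (1 : G)).2 (by simp)]
    intro h
    rw [isConj_one_right] at h
    rw [h, orderOf_one] at ht
    norm_num at ht
  -- the class equation
  have hclass : ∀ z : C, IsPRegular 2 z → ¬ IsConj (z : C ⧸ O) ((z : C ⧸ O))⁻¹ →
      ∑ χ ∈ B.toFinset, (χ : G → ℂ) t ^ 2 * conj (v χ z) / (χ : G → ℂ) 1 = 0 := by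
    intro z hz hnz
    have hrz : ∀ k ∈ O, IsPRegular 2 (k * z) := fun k hk => hreg _ (by
      rw [QuotientGroup.mk_mul, (QuotientGroup.eq_one_iff k).2 hk, one_mul]
      exact (isPRegular_mk_iff O hOdd z).2 hz)
    have hzero : ∀ k ∈ O, ∑ χ : IrrCharacter G,
        (χ : G → ℂ) t * (χ : G → ℂ) t * conj (v χ (k * z)) / (χ : G → ℂ) 1 = 0 := by
      intro k hk
      have h := Char.card_class_product t t (t * ((k * z : C) : G))
      have hem : ((Char.classFinset t ×ˢ Char.classFinset t).filter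
          fun p => p.1 * p.2 = t * ((k * z : C) : G)) = ∅ := by
        refine Finset.filter_eq_empty_iff.2 fun p hp he => ?_
        obtain ⟨hp1, hp2⟩ := Finset.mem_product.1 hp
        have hinv : ∀ {q : G}, q ∈ Char.classFinset t → q⁻¹ = q := by
          intro q hq
          obtain ⟨g, rfl⟩ := isConj_iff.1 (Char.mem_classFinset.1 hq)
          have htt : t⁻¹ = t := inv_eq_of_mul_eq_one_right
            (by rw [← pow_two, ← ht, pow_orderOf_eq_one])
          rw [mul_inv_rev, mul_inv_rev, inv_inv, htt, mul_assoc]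
        set g := t * ((k * z : C) : G) with hg
        have hpg : p.1 * g * p.1⁻¹ = g⁻¹ := by
          rw [← he, mul_inv_rev, hinv hp1, hinv hp2]
          have e1 : p.1 * p.1 = 1 := by
            nth_rw 1 [← hinv hp1]
            exact inv_mul_cancel _
          rw [← mul_assoc, e1, one_mul]
        have hy := hrz k hk
        have hpC : p.1 ∈ C := by
          have h1 := pPt_conj (p := 2) g p.1
          rw [hpg, pPt_inv, hg, pPt_mul_reg hu (hHu _) (hregC _ hy)] at h1
          have htt : t⁻¹ = t := inv_eq_of_mul_eq_one_right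
            (by rw [← pow_two, ← ht, pow_orderOf_eq_one])
          rw [htt] at h1
          exact hmem.2 (eq_mul_inv_iff_mul_eq.1 h1).symm
        have hcy : p.1 * ((k * z : C) : G) * p.1⁻¹ = ((k * z : C) : G)⁻¹ := by
          have e : p.1 * g * p.1⁻¹ = t * (p.1 * ((k * z : C) : G) * p.1⁻¹) := by
            rw [hg, ← mul_assoc p.1 t, ← (hHu ⟨p.1, hpC⟩).eq]
            simp only [mul_assoc]
          rw [e, hg, mul_inv_rev] at hpg
          have htt : t⁻¹ = t := inv_eq_of_mul_eq_one_right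
            (by rw [← pow_two, ← ht, pow_orderOf_eq_one])
          have hc := (hHu (k * z)).inv_right.eq
          rw [htt, ← hc] at hpg
          exact mul_left_cancel hpg
        refine hnz (isConj_iff.2 ⟨((⟨p.1, hpC⟩ : C) : C ⧸ O), ?_⟩)
        have e := congrArg (QuotientGroup.mk' O) (Subtype.ext hcy :
          (⟨p.1, hpC⟩ : C) * (k * z) * (⟨p.1, hpC⟩ : C)⁻¹ = (k * z)⁻¹)
        simpa [(QuotientGroup.eq_one_iff k).2 hk] using e
      rw [hem, Finset.card_empty, Nat.cast_zero] at h
      have hne : ((Char.classFinset t).card : ℂ) ≠ 0 := by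
        rw [Nat.cast_ne_zero]
        exact Finset.card_ne_zero.2 ⟨t, Char.mem_classFinset.2 (IsConj.refl t)⟩
      exact ((mul_eq_zero.1 h.symm).resolve_left
        (div_ne_zero (mul_ne_zero hne hne) Char.card_cast_ne_zero))
    have hsumk : ∀ χ : IrrCharacter G,
        ∑ k : O, v χ ((k : C) * z) = if χ ∈ B then (Nat.card O : ℂ) * v χ z else 0 := by
      intro χ
      split_ifs with hχ
      · rw [Finset.sum_congr rfl (fun (k : O) _ => hconst χ hχ _ z (hrz k k.2) hz (by
          rw [QuotientGroup.mk_mul, (QuotientGroup.eq_one_iff _).2 k.2, one_mul]))]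
        simp [Nat.card_eq_fintype_card]
      · have huH : t ∈ C := hmem.2 rfl
        have h := sum_blockCoeff_mul_char_eq_zero hM hindB
          (centralizer_pPt_le hu hHu hC.ge hz huH) hχ
        simp only [hb0, blockCoeff_principal hM hOdd D.two D.cent, ite_mul, zero_mul,
          ← Finset.sum_filter] at h
        rw [← Finset.mul_sum, mul_eq_zero] at h
        have h' := h.resolve_left (inv_ne_zero (Nat.cast_ne_zero.2 Nat.card_pos.ne'))
        rw [Finset.sum_subtype _ (p := fun k => k ∈ O) (by simp) _] at h'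
        refine Eq.trans (Finset.sum_congr rfl fun k _ => ?_) h'
        simp only [hv, Subgroup.coe_mul]
        rw [← mul_assoc, (hHu (k : C)).eq, mul_assoc]
    have h := Finset.sum_eq_zero (s := (Finset.univ : Finset O)) fun k _ => hzero k k.2
    rw [Finset.sum_comm] at h
    have key : ∀ χ : IrrCharacter G, ∑ k : O,
        (χ : G → ℂ) t * (χ : G → ℂ) t * conj (v χ ((k : C) * z)) / (χ : G → ℂ) 1 =
        if χ ∈ B then (Nat.card O : ℂ) *
          ((χ : G → ℂ) t ^ 2 * conj (v χ z) / (χ : G → ℂ) 1) else 0 := by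
      intro χ
      rw [← Finset.sum_div, ← Finset.mul_sum, ← map_sum, hsumk]
      split_ifs
      · rw [map_mul, map_natCast]; ring
      · simp
    simp only [key, ← Finset.sum_filter] at h
    rw [← Finset.mul_sum, mul_eq_zero] at h
    have h' := h.resolve_left (Nat.cast_ne_zero.2 Nat.card_pos.ne')
    rw [← h']
    exact Finset.sum_congr (by ext; simp) fun _ _ => rfl
  -- integers
  obtain ⟨w, hw3, hwsum, hwc⟩ := exists_omega
  have hwu : IsUnit w := IsUnit.of_pow_eq_one hw3 (by norm_num)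
  set W : Fin 3 → ℂ := fun j => w ^ (j : ℕ) with hW
  set L : IrrCharacter G → Fin 3 → ℂ := fun χ j =>
    (v χ 1 + conj (W j) * v χ x + conj (W j) ^ 2 * v χ (x ^ 2)) / 3 with hL
  have hint : ∀ χ ∈ B, ∀ j, ∃ n : ℤ, L χ j = n := by
    intro χ hχ j
    set q := QuotientGroup.mk' O with hq
    set Y' := Subgroup.zpowers (x : C ⧸ O) with hY'
    set Y := Y'.comap q with hY
    haveI := Fintype.ofFinite Y
    haveI := Fintype.ofFinite Y'
    have hgen : ∀ y : Y', y ∈ Subgroup.zpowers (⟨_, Subgroup.mem_zpowers _⟩ : Y') := by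
      rintro ⟨y, i, rfl⟩
      exact ⟨i, Subtype.ext rfl⟩
    have hord : orderOf (x : C ⧸ O) = 3 := by
      haveI : Fact (Nat.Prime 3) := ⟨Nat.prime_three⟩
      exact orderOf_eq_prime hx3q hxq1
    set gu : ℂˣ := hwu.unit ^ (j : ℕ) with hgu
    have hgu3 : gu ^ 3 = 1 := Units.ext (by
      rw [hgu, Units.val_pow_eq_pow_val, Units.val_pow_eq_pow_val, IsUnit.unit_spec, ← pow_mul,
        mul_comm, pow_mul, hw3, one_pow, Units.val_one])
    let lam' : Y' →* ℂˣ := monoidHomOfForallMemZpowers hgen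
      (show orderOf gu ∣ orderOf (⟨_, Subgroup.mem_zpowers _⟩ : Y') by
        rw [Subgroup.orderOf_mk, hord]; exact orderOf_dvd_of_pow_eq_one hgu3)
    let φ : Y →* Y' := MonoidHom.codRestrict (q.comp Y.subtype) Y' fun y => y.2
    have hφ : Function.Surjective φ := by
      rintro ⟨z, hz⟩
      obtain ⟨c, rfl⟩ := QuotientGroup.mk'_surjective O z
      exact ⟨⟨c, hz⟩, rfl⟩
    have hker : Nat.card φ.ker = Nat.card O := Nat.card_congr
      { toFun := fun k => ⟨((k : Y) : C), (QuotientGroup.eq_one_iff _).1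
          (congrArg Subtype.val (MonoidHom.mem_ker.1 k.2))⟩
        invFun := fun o => ⟨⟨o, show q o ∈ Y' by
            rw [show q (o : C) = 1 from (QuotientGroup.eq_one_iff _).2 o.2]; exact one_mem _⟩,
          MonoidHom.mem_ker.2 (Subtype.ext ((QuotientGroup.eq_one_iff _).2 o.2))⟩
        left_inv := fun _ => rfl
        right_inv := fun _ => rfl }
    let lam : IrrCharacter Y := ⟨_, Char.isIrrCharacter_linear (lam'.comp φ)⟩
    set F : Y' → ℂ := fun y' => v χ ((Function.surjInv hφ y' : Y) : C) * conj (lam' y' : ℂ) with hF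
    have hregY : ∀ y : Y, IsPRegular 2 (y : C) := fun y => hreg _ (by
      obtain ⟨i, hi⟩ := y.2
      intro h2
      have h3 : orderOf (((y : C) : C ⧸ O)) ∣ 3 := by
        rw [← hord]
        exact orderOf_dvd_of_mem_zpowers ⟨i, hi⟩
      exact absurd (h2.trans h3) (by norm_num))
    have hI : classInner (fun y : Y => v χ (y : C)) (lam : Y → ℂ) = L χ j := by
      have e : ∀ y : Y, v χ (y : C) * conj ((lam : Y → ℂ) y) = F (φ y) := fun y => by
        simp only [hF]
        rw [hconst χ hχ (y : C) ((Function.surjInv hφ (φ y) : Y) : C) (hregY y) (hregY _)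
          (congrArg Subtype.val (Function.surjInv_eq hφ (φ y))).symm]
        rfl
      have hcardY : Nat.card Y = 3 * Nat.card O := by
        rw [← Subgroup.card_mul_index φ.ker, hker, Subgroup.index_ker, MonoidHom.range_eq_top.2 hφ,
          Subgroup.card_top, Nat.card_zpowers, hord, mul_comm]
      rw [classInner, Finset.sum_congr rfl (fun y _ => e y), sum_comp_hom φ hφ, hker, hcardY]
      have hsum : ∑ y', F y' = F 1 + F ⟨_, Subgroup.mem_zpowers _⟩ +
          F (⟨(x : C ⧸ O), Subgroup.mem_zpowers _⟩ ^ 2) := by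
        rw [← (finEquivZPowers (isOfFinOrder_of_finite (x : C ⧸ O))).sum_comp,
          ← Fintype.sum_equiv (finCongr hord.symm) (fun i => F
            (finEquivZPowers (isOfFinOrder_of_finite (x : C ⧸ O)) (finCongr hord.symm i))) _
            (fun _ => rfl), Fin.sum_univ_three]
        congr 1
        congr 1
        all_goals (congr 1; apply Subtype.ext; simp [finEquivZPowers_apply])
      rw [hsum]
      have hval : ∀ (z : C) (hz : q z ∈ Y'), F ⟨q z, hz⟩ = v χ z * conj (lam' ⟨q z, hz⟩ : ℂ) :=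
        fun z hz => by
          simp only [hF]
          have e := congrArg Subtype.val (Function.surjInv_eq hφ ⟨q z, hz⟩)
          rw [hconst χ hχ ((Function.surjInv hφ ⟨q z, hz⟩ : Y) : C) z (hregY _) (hregY ⟨z, hz⟩) e]
      have hl1 : lam' ⟨(x : C ⧸ O), Subgroup.mem_zpowers _⟩ = gu :=
        monoidHomOfForallMemZpowers_apply_gen _ _
      have f0 : F 1 = v χ 1 := by
        have := hval 1 (by rw [map_one]; exact one_mem _)
        rw [show (⟨q 1, _⟩ : Y') = 1 from Subtype.ext (map_one q), map_one, Units.val_one,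
          map_one, mul_one] at this
        exact this
      have f1 : F ⟨_, Subgroup.mem_zpowers _⟩ = conj (W j) * v χ x := by
        show F ⟨q x, Subgroup.mem_zpowers _⟩ = _
        rw [hval x (Subgroup.mem_zpowers _), mul_comm]
        congr 2
        show ((lam' ⟨(x : C ⧸ O), Subgroup.mem_zpowers _⟩ : ℂˣ) : ℂ) = _
        rw [hl1, hgu, Units.val_pow_eq_pow_val, IsUnit.unit_spec]
      have f2 : F (⟨(x : C ⧸ O), Subgroup.mem_zpowers _⟩ ^ 2) =
          conj (W j) ^ 2 * v χ (x ^ 2) := by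
        have := hval (x ^ 2) (by rw [map_pow]; exact pow_mem (Subgroup.mem_zpowers _) 2)
        rw [show (⟨q (x ^ 2), _⟩ : Y') = ⟨(x : C ⧸ O), Subgroup.mem_zpowers _⟩ ^ 2 from
          Subtype.ext (map_pow q x 2)] at this
        rw [this, map_pow lam', hl1, hgu, Units.val_pow_eq_pow_val, Units.val_pow_eq_pow_val,
          IsUnit.unit_spec, map_pow, mul_comm]
      rw [f0, f1, f2, hL]
      have hO0 : (Nat.card O : ℂ) ≠ 0 := Nat.cast_ne_zero.2 Nat.card_pos.ne'
      push_cast
      field_simp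
    have huH : t ∈ C := hmem.2 rfl
    choose c hc hcη using fun η : IrrCharacter C => classInner_secFn huH hHu χ η
    choose n hn using fun η : IrrCharacter C =>
      (χ.2.isCharacter.comp C.subtype).exists_nat_classInner η.2.isCharacter
    choose m hm using fun η : IrrCharacter C =>
      (η.2.isCharacter.comp Y.subtype).exists_nat_classInner lam.2.isCharacter
    have hc' : ∀ η, ∃ e : ℤ, c η = e := fun η => by
      have h := hc η
      rw [ht, sq, mul_self_eq_one_iff] at h
      rcases h with h | h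
      · exact ⟨1, by simp [h]⟩
      · exact ⟨-1, by simp [h]⟩
    choose e he using hc'
    refine ⟨∑ η : IrrCharacter C, e η * n η * m η, ?_⟩
    rw [← hI]
    have hexp : (fun y : Y => v χ (y : C)) = ∑ η : IrrCharacter C,
        ((e η * n η : ℤ) : ℂ) • fun y : Y => (η : C → ℂ) (y : C) := by
      funext y
      have h := congrFun (Char.eq_sum_classInner (isClassFunction_secFn hHu χ)) (y : C)
      rw [Finset.sum_apply]
      refine h.trans ?_
      rw [Finset.sum_apply]
      refine Finset.sum_congr rfl fun η _ => ?_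
      simp only [Pi.smul_apply, smul_eq_mul]
      rw [hcη, he]
      have e1 : classInner (fun h : C => (χ : G → ℂ) h) (η : C → ℂ) = (n η : ℂ) := hn η
      rw [e1]
      push_cast
      ring
    rw [hexp, Char.classInner_sum_left]
    push_cast
    refine Finset.sum_congr rfl fun η _ => ?_
    rw [Char.classInner_smul_left]
    congr 1
    exact hm η
  have hf : ∀ χ : IrrCharacter G, (χ : G → ℂ) 1 = (charDegree (χ : G → ℂ) : ℂ) := fun χ =>
    χ.2.apply_one_eq_charDegree
  let ι := {χ : IrrCharacter G // χ ∈ B}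
  choose d hd using fun (j : Fin 3) (i : ι) => hint i.1 i.2 j
  have hsub : ∀ F : IrrCharacter G → ℂ, ∑ i : ι, F i.1 = ∑ χ ∈ B.toFinset, F χ := fun F =>
    (Finset.sum_subtype B.toFinset (fun _ => Set.mem_toFinset) F).symm
  have hconjW : ∀ j, conj (W j) = W j ^ 2 := fun j => by
    simp only [hW, map_pow, hwc, ← pow_mul, mul_comm]
  have hW3 : ∀ j, W j ^ 3 = 1 := fun j => by
    simp only [hW]; rw [← pow_mul, mul_comm, pow_mul, hw3, one_pow]
  have hk11 : regKer b0 1 1 = 24 := by
    rw [hb0, regKer_principal hM hOdd D.two D.cent, if_pos (IsConj.refl _)]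
    rw [show Subgroup.centralizer ({((1 : C) : C ⧸ O)} : Set (C ⧸ O)) = ⊤ from
      eq_top_iff.2 fun q _ => Subgroup.mem_centralizer_singleton_iff.2 (by simp),
      Subgroup.card_top, h24]
    norm_num
  have hkxx : regKer b0 x x = 6 := by
    rw [hb0, regKer_principal hM hOdd D.two D.cent, if_pos (IsConj.refl _), h6]
    norm_num
  have hcinv : Subgroup.centralizer ({(x : C ⧸ O)⁻¹} : Set (C ⧸ O)) =
      Subgroup.centralizer ({(x : C ⧸ O)} : Set (C ⧸ O)) := by
    ext q
    rw [Subgroup.mem_centralizer_singleton_iff, Subgroup.mem_centralizer_singleton_iff]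
    exact Commute.inv_right_iff
  have hk22 : regKer b0 (x ^ 2) (x ^ 2) = 6 := by
    rw [hb0, regKer_principal hM hOdd D.two D.cent, if_pos (IsConj.refl _), hx2, hcinv, h6]
    norm_num
  have hk0 : ∀ y y' : C, ¬ IsConj (y : C ⧸ O) (y' : C ⧸ O) → regKer b0 y y' = 0 :=
    fun y y' h => by rw [hb0, regKer_principal hM hOdd D.two D.cent, if_neg h]
  have hk01 : regKer b0 1 x = 0 := hk0 _ _ (by
    rw [QuotientGroup.mk_one, isConj_one_right]; exact hxq1)
  have hk02 : regKer b0 1 (x ^ 2) = 0 := hk0 _ _ (by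
    rw [QuotientGroup.mk_one, isConj_one_right, hx2, inv_eq_one]; exact hxq1)
  have hk10 : regKer b0 x 1 = 0 := hk0 _ _ (by
    rw [QuotientGroup.mk_one, isConj_one_left]; exact hxq1)
  have hk20 : regKer b0 (x ^ 2) 1 = 0 := hk0 _ _ (by
    rw [QuotientGroup.mk_one, isConj_one_left, hx2, inv_eq_one]; exact hxq1)
  have hk12 : regKer b0 x (x ^ 2) = 0 := hk0 _ _ (by rwa [hx2])
  have hk21 : regKer b0 (x ^ 2) x = 0 := hk0 _ _ (by rw [hx2]; exact fun h => hncj h.symm)
  have hgram : ∀ j k, ∑ χ ∈ B.toFinset, L χ j * conj (L χ k) =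
      (24 + 6 * (W j ^ 2 * W k) + 6 * (W j * W k ^ 2)) / 9 := by
    intro j k
    have e : ∀ χ : IrrCharacter G, L χ j * conj (L χ k) =
        ((v χ 1 * conj (v χ 1)) + W k * (v χ 1 * conj (v χ x)) +
          W k ^ 2 * (v χ 1 * conj (v χ (x ^ 2))) + W j ^ 2 * (v χ x * conj (v χ 1)) +
          W j ^ 2 * W k * (v χ x * conj (v χ x)) +
          W j ^ 2 * W k ^ 2 * (v χ x * conj (v χ (x ^ 2))) +
          W j * (v χ (x ^ 2) * conj (v χ 1)) +
          W j * W k * (v χ (x ^ 2) * conj (v χ x)) +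
          W j * W k ^ 2 * (v χ (x ^ 2) * conj (v χ (x ^ 2)))) / 9 := by
      intro χ
      simp only [hL, map_div₀, map_add, map_mul, map_pow, Complex.conj_conj, map_ofNat, hconjW j]
      rw [show (W j ^ 2) ^ 2 = W j by linear_combination (W j) * hW3 j]
      field_simp
      ring
    simp only [e, ← Finset.sum_div, Finset.sum_add_distrib, ← Finset.mul_sum]
    rw [horth 1 1 hr0 hr0, horth 1 x hr0 hr1, horth 1 _ hr0 hr2, horth x 1 hr1 hr0,
      horth x x hr1 hr1, horth x _ hr1 hr2, horth _ 1 hr2 hr0, horth _ x hr2 hr1,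
      horth _ _ hr2 hr2, hk11, hkxx, hk22, hk01, hk02, hk10, hk20, hk12, hk21]
    ring
  have hdd : ∀ j k (i : ι), ((d j i * d k i : ℤ) : ℂ) = L i.1 j * conj (L i.1 k) := fun j k i => by
    rw [hd, hd, map_intCast, Int.cast_mul]
  have hsumW : ∀ j k : Fin 3, j ≠ k → W j ^ 2 * W k + W j * W k ^ 2 = -1 :=
    fun j k hjk => sum_pow_ne hw3 hwsum hjk
  have hn : ∀ j, ∑ i, d j i ^ 2 = 4 := fun j => by
    have h : ((∑ i, d j i ^ 2 : ℤ) : ℂ) = 4 := by
      push_cast
      rw [Finset.sum_congr rfl (fun i _ => show (d j i : ℂ) ^ 2 = _ by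
        rw [sq, ← Int.cast_mul, hdd j j i]), hsub fun χ => L χ j * conj (L χ j), hgram]
      linear_combination (12 / 9 : ℂ) * hW3 j
    exact_mod_cast h
  have hp : ∀ j k, j ≠ k → ∑ i, d j i * d k i = 2 := fun j k hjk => by
    have h : ((∑ i, d j i * d k i : ℤ) : ℂ) = 2 := by
      rw [Int.cast_sum, Finset.sum_congr rfl (fun i _ => hdd j k i),
        hsub fun χ => L χ j * conj (L χ k), hgram]
      linear_combination (6 / 9 : ℂ) * hsumW j k hjk
    exact_mod_cast h
  let f : ι → ℤ := fun i => (charDegree (i.1 : G → ℂ) : ℤ)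
  have hfdef : ∀ i, f i = (charDegree (i.1 : G → ℂ) : ℤ) := fun _ => rfl
  have hdeg : ∀ j, ∑ i, f i * d j i = 0 := fun j => by
    have h : ((∑ i, f i * d j i : ℤ) : ℂ) = 0 := by
      rw [Int.cast_sum, Finset.sum_congr rfl (fun i _ => show ((f i * d j i : ℤ) : ℂ) =
        (i.1 : G → ℂ) 1 * conj (L i.1 j) by
          rw [hd, map_intCast, hf, Int.cast_mul, hfdef, Int.cast_natCast]),
        hsub fun χ => (χ : G → ℂ) 1 * conj (L χ j)]
      have e : ∀ χ : IrrCharacter G, (χ : G → ℂ) 1 * conj (L χ j) =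
          ((χ : G → ℂ) 1 * conj (v χ 1) + W j * ((χ : G → ℂ) 1 * conj (v χ x)) +
            W j ^ 2 * ((χ : G → ℂ) 1 * conj (v χ (x ^ 2)))) / 3 := by
        intro χ
        simp only [hL, map_div₀, map_add, map_mul, map_pow, Complex.conj_conj, map_ofNat]
        ring
      simp only [e, ← Finset.sum_div, Finset.sum_add_distrib, ← Finset.mul_sum, hdegB 1 hr0,
        hdegB x hr1, hdegB _ hr2]
      simp
    exact_mod_cast h
  have ha : ∀ i : ι, ((d 0 i + d 1 i + d 2 i : ℤ) : ℂ) = (i.1 : G → ℂ) t := fun i => by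
    push_cast
    rw [← hd, ← hd, ← hd]
    simp only [hL, hconjW]
    simp only [hW, Fin.val_zero, Fin.val_one, Fin.val_two, hv, OneMemClass.coe_one,
      mul_one, pow_zero, pow_one, one_pow]
    linear_combination ((i.1 : G → ℂ) (t * (x : G)) / 3) * (hwsum + w * hw3) +
      ((i.1 : G → ℂ) (t * ((x ^ 2 : C) : G)) / 3) * (hwsum + (w + w ^ 2 * (w ^ 3 + 1)) * hw3)
  -- restriction to the Sylow subgroup
  have hres : ∀ i : ι, ∃ n : ℕ, (f i + 7 * (d 0 i + d 1 i + d 2 i)) = 8 * n := by
    intro i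
    haveI := Fintype.ofFinite (S : Subgroup G)
    obtain ⟨n, hn⟩ := (i.1.2.isCharacter.comp (S : Subgroup G).subtype).exists_nat_classInner
      (Char.isCharacter_one (G := (S : Subgroup G)))
    refine ⟨n, ?_⟩
    have h : ((f i + 7 * (d 0 i + d 1 i + d 2 i) : ℤ) : ℂ) = ((8 * n : ℤ) : ℂ) := by
      rw [Int.cast_add, Int.cast_mul 7, ha i, Int.cast_mul, Int.cast_natCast n, ← hn, classInner,
        h8, ← Finset.add_sum_erase Finset.univ _ (Finset.mem_univ 1)]
      simp only [map_one, mul_one, hfdef, Int.cast_natCast, ← hf]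
      rw [Finset.sum_congr rfl (g := fun _ => (i.1 : G → ℂ) t)]
      · rw [Finset.sum_const, Finset.card_erase_of_mem (Finset.mem_univ 1), Finset.card_univ,
          ← Nat.card_eq_fintype_card, h8]
        simp
      · intro s hs
        obtain ⟨g, hg⟩ := isConj_iff.1 (hS s s.2 (fun h =>
          (Finset.mem_erase.1 hs).1 (Subtype.ext h)))
        show (i.1 : G → ℂ) (s : G) = _
        rw [← hg, i.1.2.isClassFunction t g]
    exact_mod_cast h
  -- complex conjugation
  have hk : (Nat.card G - 1).Coprime (Nat.card G) :=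
    (Nat.coprime_self_sub_left Nat.card_pos).2 (Nat.coprime_one_left _)
  have hpow : ∀ g : G, g ^ (Nat.card G - 1) = g⁻¹ := fun g =>
    eq_inv_of_mul_eq_one_left (by
      rw [← pow_succ, Nat.sub_add_cancel Nat.card_pos, pow_card_eq_one'])
  let σ : ι → ι := fun i => ⟨_, principal_comp_pow hM hk i.2⟩
  have hσv : ∀ (i : ι) (g : G), ((σ i).1 : G → ℂ) g = conj ((i.1 : G → ℂ) g) := fun i g => by
    show (i.1 : G → ℂ) (g ^ (Nat.card G - 1)) = _
    rw [hpow, i.1.2.isCharacter.apply_inv]
  have hσ : ∀ i, σ (σ i) = i := fun i => Subtype.ext (Subtype.ext (funext fun g => by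
    rw [hσv, hσv, Complex.conj_conj]))
  have hσd : ∀ (i : ι) (j k : Fin 3), conj (W j) = W k → d j (σ i) = d k i := by
    intro i j k hjk
    have h : conj ((d j (σ i) : ℤ) : ℂ) = (d k i : ℂ) := by
      rw [← hd, ← hd]
      simp only [hL, hv, hσv, map_div₀, map_add, map_mul, map_pow, Complex.conj_conj, map_ofNat,
        ← hjk]
    rw [map_intCast] at h
    exact_mod_cast h
  have ho : trivChar G ∈ B := trivChar_mem_principal hM
  refine false_of_columns (ι := ι) d f σ ⟨_, ho⟩ hσ
    (fun i => hσd i 0 0 (by simp [hW]))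
    (fun i => hσd i 1 2 (by simp [hW, hwc]))
    (fun i => ?_) hn hp hdeg
    (fun i => by rw [hfdef]; exact_mod_cast i.1.2.charDegree_pos)
    (fun i => ?_) (fun i => ?_) ?_ ?_ ?_ ?_ ?_ ?_
  · have h : ((f (σ i) : ℤ) : ℂ) = (f i : ℂ) := by
      simp only [hfdef, Int.cast_natCast, ← hf, hσv]
      rw [hf i.1, map_natCast]
    exact_mod_cast h
  · obtain ⟨n, hn⟩ := hres i
    exact ⟨n, hn⟩
  · obtain ⟨n, hn⟩ := hres i
    omega
  · have h : ((f ⟨_, ho⟩ : ℤ) : ℂ) = 1 := by
      rw [hfdef, Int.cast_natCast, ← hf]; simp [trivChar_coe]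
    exact_mod_cast h
  · have h : ((d 0 ⟨_, ho⟩ : ℤ) : ℂ) = 1 := by
      rw [← hd]; simp [hL, hv, trivChar_coe, hW]; norm_num
    exact_mod_cast h
  · have h : ((d 1 ⟨_, ho⟩ : ℤ) : ℂ) = 0 := by
      rw [← hd]; simp [hL, hv, trivChar_coe, hW, hwc]
      linear_combination hwsum + w * hw3
    exact_mod_cast h
  · have h : ((d 2 ⟨_, ho⟩ : ℤ) : ℂ) = 0 := by
      rw [← hd]; simp [hL, hv, trivChar_coe, hW, hwc]
      linear_combination hwsum + (w + w ^ 2 * (w ^ 3 + 1)) * hw3
    exact_mod_cast h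
  · intro i hi
    have h1 : (i.1 : G → ℂ) 1 = 1 := by
      rw [hf]
      have : charDegree (i.1 : G → ℂ) = 1 := by rw [hfdef] at hi; exact_mod_cast hi
      rw [this, Nat.cast_one]
    obtain ⟨φ, hφ⟩ := Char.exists_hom_of_degree_one i.1.2.isCharacter h1
    refine Subtype.ext (Subtype.ext ?_)
    rw [hφ, trivChar_coe]
    funext g
    have hg : g ∈ φ.ker := Abelianization.commutator_subset_ker φ (hperf ▸ Subgroup.mem_top g)
    rw [MonoidHom.mem_ker.1 hg, Units.val_one]
  · have h : ((∑ i : ι, ((d 0 i + d 1 i + d 2 i : ℤ) : ℚ) ^ 2 * ((d 0 i - d 1 i : ℤ) : ℚ) /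
        (f i : ℚ) : ℚ) : ℂ) = 0 := by
      push_cast
      have e : ∀ i : ι, ((d 0 i : ℂ) + d 1 i + d 2 i) ^ 2 * ((d 0 i : ℂ) - d 1 i) / (f i : ℂ) =
          ((1 - W 1) * ((i.1 : G → ℂ) t ^ 2 * conj (v i.1 x) / (i.1 : G → ℂ) 1) +
            (1 - W 1 ^ 2) * ((i.1 : G → ℂ) t ^ 2 * conj (v i.1 (x ^ 2)) / (i.1 : G → ℂ) 1)) /
              3 := by
        intro i
        have h0 : ((d 0 i : ℤ) : ℂ) - d 1 i = conj (L i.1 0 - L i.1 1) := by
          rw [hd, hd, map_sub, map_intCast, map_intCast]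
        have h2 : (d 0 i : ℂ) + d 1 i + d 2 i = (i.1 : G → ℂ) t := by
          rw [← ha i]; push_cast; ring
        rw [h2, h0, hfdef, Int.cast_natCast, ← hf]
        simp only [hL, map_sub, map_div₀, map_add, map_mul, map_pow, Complex.conj_conj, map_ofNat,
          hW, Fin.val_zero, pow_zero, Fin.val_one, pow_one, one_pow, map_one]
        ring
      simp only [e, ← Finset.sum_div, Finset.sum_add_distrib, ← Finset.mul_sum]
      rw [hsub fun χ => (χ : G → ℂ) t ^ 2 * conj (v χ x) / (χ : G → ℂ) 1,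
        hsub fun χ => (χ : G → ℂ) t ^ 2 * conj (v χ (x ^ 2)) / (χ : G → ℂ) 1,
        hclass x hr1 hncj, hclass _ hr2 (by rw [hx2, inv_inv]; exact fun h => hncj h.symm)]
      simp
    exact_mod_cast h

end Cfsg.Lib.E8Cent
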