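import Cfsg.Agent.Lib.E8Cent.Auto
import Cfsg.Agent.Lib.Core.PSolvable

/-!
# The centralizer of an involution when the automizer has order 21
-/

set_option autoImplicit false
set_option linter.style.haveILetI false

namespace Cfsg.Lib.E8Cent

open Subgroup Cfsg
open scoped IsMulCommutative

universe u

variable {G : Type u} [Group G] [Finite G]

/-- `Q` is the image of a Sylow subgroup modulo the odd core, self-centralizing of index three. -/
structure CoreData {C : Type u} [Group C] (O : Subgroup C) [O.Normal] (t : C)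
    (Q : Subgroup (C ⧸ O)) : Prop where
  normal : Q.Normal
  two : IsPGroup 2 Q
  cent : centralizer (Q : Set (C ⧸ O)) ≤ Q
  card : Nat.card Q = 8
  index : Q.index = 3
  mem : (t : C ⧸ O) ∈ Q
  ne : (t : C ⧸ O) ≠ 1
  central : ∀ q : C ⧸ O, Commute (t : C ⧸ O) q

theorem exists_coreData (S : Sylow 2 G) [hab : IsMulCommutative (S : Subgroup G)]
    (h8 : Nat.card (S : Subgroup G) = 8) (hel : IsElementaryAbelian 2 (S : Subgroup G))
    (h21 : Nat.card (automizer S) = 21) {t : G} (htS : t ∈ (S : Subgroup G)) (ht : t ≠ 1)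
    (hsol : Group.IsSolvable ↥(centralizer ({t} : Set G))) :
    ∃ (O : Subgroup ↥(centralizer ({t} : Set G))) (_ : O.Normal)
      (tC : ↥(centralizer ({t} : Set G))) (Q : Subgroup (↥(centralizer ({t} : Set G)) ⧸ O)),
      (tC : G) = t ∧ ¬ 2 ∣ Nat.card O ∧ CoreData O tC Q := by
  classical
  haveI : Fact (Nat.Prime 2) := ⟨Nat.prime_two⟩
  set C := centralizer ({t} : Set G) with hC
  have hSC : (S : Subgroup G) ≤ C := fun s hs => mem_centralizer_singleton_iff.2
    (congrArg Subtype.val (mul_comm' (⟨s, hs⟩ : (S : Subgroup G)) ⟨t, htS⟩))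
  let T : Sylow 2 C := S.subtype hSC
  have hT : ∀ c : C, c ∈ (T : Subgroup C) ↔ (c : G) ∈ (S : Subgroup G) := fun c => Iff.rfl
  have hT8 : Nat.card (T : Subgroup C) = 8 :=
    (Nat.card_congr (subgroupOfEquivOfLe hSC).toEquiv).trans h8
  set O := Cfsg.pPrimeCore 2 C with hO
  haveI hOn : O.Normal := by
    rw [hO]; infer_instance
  have hOdd : ¬ 2 ∣ Nat.card O := Cfsg.Lib.Core.pPrimeCore_not_dvd 2 C
  set f := QuotientGroup.mk' O with hf
  set Q := (T : Subgroup C).map f with hQ
  have hTO : ∀ c ∈ (T : Subgroup C), c ∈ O → c = 1 := by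
    intro c hc hcO
    obtain ⟨k, hk⟩ := T.2 ⟨c, hc⟩
    have h1 : orderOf c ∣ 2 ^ k := orderOf_dvd_of_pow_eq_one (congrArg Subtype.val hk)
    obtain ⟨j, -, hj⟩ := (Nat.dvd_prime_pow Nat.prime_two).1 h1
    rcases Nat.eq_zero_or_pos j with rfl | hj0
    · exact orderOf_eq_one_iff.1 (by simpa using hj)
    · exfalso
      refine hOdd ((dvd_pow_self 2 hj0.ne').trans ?_)
      rw [← hj]
      have := orderOf_dvd_natCard (⟨c, hcO⟩ : O)
      rwa [Subgroup.orderOf_mk] at this
  have hinj : Function.Injective (f.comp (T : Subgroup C).subtype) := by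
    rw [injective_iff_map_eq_one]
    intro c hc
    exact Subtype.ext (hTO c c.2 ((QuotientGroup.eq_one_iff _).1 hc))
  have hQ8 : Nat.card Q = 8 := by
    rw [hQ, ← hT8, show (T : Subgroup C).map f = (f.comp (T : Subgroup C).subtype).range by
      rw [MonoidHom.range_comp, range_subtype]]
    exact (Nat.card_congr (MonoidHom.ofInjective hinj).toEquiv).symm
  have hQ2 : IsPGroup 2 Q := T.2.map f
  let QS : Sylow 2 (C ⧸ O) := T.mapSurjective (QuotientGroup.mk'_surjective O)
  have hQab : ∀ a ∈ Q, ∀ b ∈ Q, a * b = b * a := by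
    rintro _ ⟨a, ha, rfl⟩ _ ⟨b, hb, rfl⟩
    rw [← map_mul, ← map_mul]
    have h : (a : G) * b = b * a := congrArg Subtype.val
      (mul_comm' (⟨(a : G), ha⟩ : (S : Subgroup G)) ⟨(b : G), hb⟩)
    exact congrArg f (Subtype.ext h)
  haveI : Group.IsSolvable C := hsol
  haveI : Group.IsSolvable (C ⧸ O) := solvable_of_surjective (QuotientGroup.mk'_surjective O)
  have hHH := Cfsg.Lib.Core.centralizer_pCore_le_of_isPSolvable
    (Cfsg.Lib.Core.isPSolvable_of_isSolvable (p := 2) (G := C ⧸ O))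
    Cfsg.Lib.Core.pPrimeCore_quotient_eq_bot
  have hcoreQ : Cfsg.pCore 2 (C ⧸ O) ≤ Q := Cfsg.Lib.Core.pCore_le_sylow QS
  have hQcore : Q ≤ Cfsg.pCore 2 (C ⧸ O) := le_trans
    (fun q hq => mem_centralizer_iff.2 fun r hr => hQab r (hcoreQ hr) q hq) hHH
  have hQeq : Q = Cfsg.pCore 2 (C ⧸ O) := le_antisymm hQcore hcoreQ
  have hQn : Q.Normal := by rw [hQeq]; infer_instance
  have hQc : centralizer (Q : Set (C ⧸ O)) ≤ Q := by rw [hQeq]; exact hHH
  set tC : C := ⟨t, mem_centralizer_singleton_iff.2 rfl⟩ with htC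
  have htT : tC ∈ (T : Subgroup C) := htS
  refine ⟨O, hOn, tC, Q, rfl, hOdd, hQn, hQ2, hQc, hQ8, ?_, mem_map_of_mem f htT, ?_, ?_⟩
  · -- the index
    haveI := hQn
    set N := normalizer ((T : Subgroup C) : Set C) with hN
    have hsurj : Function.Surjective (f.comp N.subtype) := by
      intro q
      obtain ⟨c, rfl⟩ := QuotientGroup.mk'_surjective O q
      have hle : (T : Subgroup C) ≤ Q.comap f := le_comap_map f _
      have hfr := Sylow.normalizer_sup_eq_top' T hle
      have hc : c ∈ N ⊔ Q.comap f := hfr ▸ mem_top c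
      rw [← SetLike.mem_coe, Subgroup.mul_normal, Set.mem_mul] at hc
      obtain ⟨n, hn, k, hk, rfl⟩ := hc
      obtain ⟨s, hs, hsk⟩ := (hk : f k ∈ Q)
      refine ⟨⟨n * s, mul_mem hn (le_normalizer hs)⟩, ?_⟩
      show f (n * s) = f (n * k)
      rw [map_mul, map_mul, hsk]
    have hNG : ∀ n : N, ((n : C) : G) ∈ normalizer ((S : Subgroup G) : Set G) := by
      intro n
      refine mem_normalizer_iff.2 fun g => ⟨fun hg => ?_, fun hg => ?_⟩
      · exact (mem_normalizer_iff.1 n.2 ⟨g, hSC hg⟩).1 hg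
      · have hgC : g ∈ C := by
          have h := mul_mem (mul_mem (inv_mem (n : C).2) (hSC hg)) (n : C).2
          simpa [mul_assoc] using h
        exact (mem_normalizer_iff.1 n.2 ⟨g, hgC⟩).2 hg
    let g : N →* MulAut (S : Subgroup G) := (S : Subgroup G).normalizerMonoidHom.comp
      (MonoidHom.codRestrict (C.subtype.comp N.subtype) _ hNG)
    have hgapp : ∀ (n : N) (s : (S : Subgroup G)),
        ((g n) s : G) = ((n : C) : G) * s * ((n : C) : G)⁻¹ := fun n s => rfl
    have hker : g.ker = Q.comap (f.comp N.subtype) := by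
      ext n
      rw [MonoidHom.mem_ker, mem_comap]
      constructor
      · intro h
        refine hQc (mem_centralizer_iff.2 ?_)
        rintro _ ⟨s, hs, rfl⟩
        show f s * f n = f n * f s
        rw [← map_mul, ← map_mul]
        refine congrArg f (Subtype.ext ?_)
        have h1 := hgapp n ⟨s, hs⟩
        rw [h] at h1
        show (s : G) * ((n : C) : G) = ((n : C) : G) * (s : G)
        exact eq_mul_inv_iff_mul_eq.1 h1
      · intro h
        ext s
        rw [hgapp]
        show ((n : C) : G) * (s : G) * ((n : C) : G)⁻¹ = (s : G)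
        have hsT : (⟨s, hSC s.2⟩ : C) ∈ (T : Subgroup C) := s.2
        have hcomm := hQab _ h _ (mem_map_of_mem f hsT)
        have hd : (n : C) * ⟨s, hSC s.2⟩ * (n : C)⁻¹ * (⟨s, hSC s.2⟩ : C)⁻¹ = 1 := by
          refine hTO _ (mul_mem ((mem_normalizer_iff.1 n.2 _).1 hsT) (inv_mem hsT)) ?_
          rw [← QuotientGroup.eq_one_iff]
          show f _ = 1
          simp only [map_mul, map_inv]
          rw [show f (n : C) * f ⟨s, hSC s.2⟩ = f ⟨s, hSC s.2⟩ * f (n : C) from hcomm]
          group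
        exact congrArg Subtype.val (mul_inv_eq_one.1 hd)
    rw [← index_comap_of_surjective Q hsurj, ← hker, index_ker]
    set tS : (S : Subgroup G) := ⟨t, htS⟩ with htS'
    have hrange : g.range = (MulAction.stabilizer (automizer S) tS).map (automizer S).subtype := by
      ext a
      constructor
      · rintro ⟨n, rfl⟩
        refine ⟨⟨g n, ⟨_, rfl⟩⟩, ?_, rfl⟩
        refine MulAction.mem_stabilizer_iff.2 (Subtype.ext ?_)
        show ((g n) tS : G) = t
        rw [hgapp, htS']
        exact mul_inv_eq_iff_eq_mul.2 (mem_centralizer_singleton_iff.1 (n : C).2)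
      · rintro ⟨⟨b, hb⟩, hbt, rfl⟩
        obtain ⟨m, hm, hmb⟩ := (mem_automizer_iff S).1 hb
        have hfix : b tS = tS := hbt
        have hmC : m ∈ C := by
          refine mem_centralizer_singleton_iff.2 (mul_inv_eq_iff_eq_mul.1 ?_)
          have := hmb tS
          rw [hfix] at this
          exact this.symm
        have hmN : (⟨m, hmC⟩ : C) ∈ N :=
          mem_normalizer_iff.2 fun c => mem_normalizer_iff.1 hm c
        exact ⟨⟨⟨m, hmC⟩, hmN⟩, MulEquiv.ext fun s => Subtype.ext ((hgapp _ s).trans (hmb s).symm)⟩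
    rw [hrange, Subgroup.card_map_of_injective (automizer S).subtype_injective]
    exact card_stabilizer_of_21 h8 hel h21 (fun h => ht (congrArg Subtype.val h))
  · exact fun h => ht (congrArg Subtype.val (hTO tC htT ((QuotientGroup.eq_one_iff _).1 h)))
  · intro q
    obtain ⟨c, rfl⟩ := QuotientGroup.mk'_surjective O q
    show f tC * f c = f c * f tC
    rw [← map_mul, ← map_mul]
    exact congrArg f (Subtype.ext (mem_centralizer_singleton_iff.1 c.2).symm)

variable {C : Type u} [Group C] [Finite C] {O : Subgroup C} [O.Normal] {t : C}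
  {Q : Subgroup (C ⧸ O)}

/-- What the character computation needs from the quotient. -/
theorem CoreData.exists_x (D : CoreData O t Q) (hOdd : ¬ 2 ∣ Nat.card O) :
    ∃ x : C, ¬ 2 ∣ orderOf x ∧ x ^ 3 ∈ O ∧ x ∉ O ∧ Nat.card (C ⧸ O) = 24 ∧
      Nat.card (centralizer ({(x : C ⧸ O)} : Set (C ⧸ O))) = 6 ∧
      ¬ IsConj (x : C ⧸ O) ((x : C ⧸ O)⁻¹) := by
  classical
  haveI : Fact (Nat.Prime 2) := ⟨Nat.prime_two⟩
  haveI : Fact (Nat.Prime 3) := ⟨Nat.prime_three⟩
  haveI := D.normal
  have h24 : Nat.card (C ⧸ O) = 24 := by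
    rw [← card_mul_index Q, D.card, D.index]
  obtain ⟨z, hz⟩ := exists_prime_orderOf_dvd_card' (G := C ⧸ O) 3 (by rw [h24]; norm_num)
  obtain ⟨c, rfl⟩ := QuotientGroup.mk_surjective z
  have hcpow : (c : C ⧸ O) ^ 4 = (c : C ⧸ O) := by
    rw [pow_succ, ← hz, pow_orderOf_eq_one, one_mul]
  set m := (orderOf c).factorization 2 with hm
  set x := c ^ (4 ^ m) with hx
  have hxc : (x : C ⧸ O) = (c : C ⧸ O) := by
    rw [hx, QuotientGroup.mk_pow]
    clear_value m
    clear hm hx x
    induction m with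
    | zero => simp
    | succ k ih => rw [pow_succ, pow_mul, ih, hcpow]
  have hxodd : ¬ 2 ∣ orderOf x := by
    intro h2
    have hpos := orderOf_pos c
    rw [hx, orderOf_pow] at h2
    have h4 : 2 ^ m ∣ (orderOf c).gcd (4 ^ m) :=
      Nat.dvd_gcd (Nat.ordProj_dvd _ 2) (pow_dvd_pow_of_dvd (by norm_num) m)
    have h5 : orderOf c / (orderOf c).gcd (4 ^ m) ∣ orderOf c / 2 ^ m :=
      Nat.div_dvd_div_left (Nat.gcd_dvd_left _ _) h4
    exact Nat.not_dvd_ordCompl Nat.prime_two hpos.ne' (h2.trans h5)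
  have hQord : ∀ q ∈ Q, ¬ orderOf q = 3 := fun q hq h3 => by
    have := Subgroup.orderOf_mk (H := Q) q hq ▸ orderOf_dvd_natCard (⟨q, hq⟩ : Q)
    rw [D.card, h3] at this
    norm_num at this
  have hxQ : (x : C ⧸ O) ∉ Q := fun h => hQord _ h (hxc ▸ hz)
  refine ⟨x, hxodd, ?_, fun h => ?_, h24, ?_, ?_⟩
  · rw [← QuotientGroup.eq_one_iff, QuotientGroup.mk_pow, hxc, ← hz, pow_orderOf_eq_one]
  · rw [← QuotientGroup.eq_one_iff, hxc] at h
    rw [h, orderOf_one] at hz
    norm_num at hz
  · set y := (x : C ⧸ O) with hy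
    have hy3 : orderOf y = 3 := hxc ▸ hz
    set K := centralizer ({y} : Set (C ⧸ O)) with hK
    have h6 : 6 ∣ Nat.card K := by
      refine (show Nat.Coprime 2 3 by norm_num).mul_dvd_of_dvd_of_dvd ?_ ?_
      · have ht2 : orderOf (t : C ⧸ O) ∣ 8 := by
          have := orderOf_dvd_natCard (⟨_, D.mem⟩ : Q)
          rwa [Subgroup.orderOf_mk, D.card] at this
        obtain ⟨j, -, hj⟩ := (Nat.dvd_prime_pow Nat.prime_two).1
          (show orderOf (t : C ⧸ O) ∣ 2 ^ 3 from ht2)
        have hj0 : j ≠ 0 := fun h => D.ne (orderOf_eq_one_iff.1 (by rw [hj, h, pow_zero]))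
        have := orderOf_dvd_natCard (⟨(t : C ⧸ O), mem_centralizer_singleton_iff.2 (D.central y)⟩ : K)
        rw [Subgroup.orderOf_mk, hj] at this
        exact (dvd_pow_self 2 hj0).trans this
      · have := orderOf_dvd_natCard (⟨y, mem_centralizer_singleton_iff.2 rfl⟩ : K)
        rwa [Subgroup.orderOf_mk, hy3] at this
    have hd24 : Nat.card K ∣ 24 := h24 ▸ card_subgroup_dvd_card K
    have hmod := (IsPGroup.of_card (n := 1) (by rw [Nat.card_zpowers, hy3, pow_one]) :
      IsPGroup 3 (zpowers y))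
    by_contra hne
    have h12 : 12 ≤ Nat.card K := by
      obtain ⟨k, hk⟩ := h6
      have : k ∣ 4 := Nat.dvd_of_mul_dvd_mul_left (by norm_num : 0 < 6) (hk ▸ hd24)
      have hk4 : k ≤ 4 := Nat.le_of_dvd (by norm_num) this
      interval_cases k <;> omega
    -- the fixed points of `y` on `Q` are `K ⊓ Q`
    set F := K ⊓ Q with hF
    have hmul : Nat.card F * F.relIndex K = Nat.card K := by
      rw [← relIndex_bot_left F, ← relIndex_bot_left K]
      exact relIndex_mul_relIndex _ _ _ bot_le inf_le_left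
    have hrel : F.relIndex K ≤ 3 := by
      rw [hF, inf_relIndex_left, ← D.index, ← relIndex_top_right Q]
      exact relIndex_le_of_le_right le_top (by rw [relIndex_top_right, D.index]; norm_num)
    have hF4 : 4 ≤ Nat.card F := by nlinarith
    have hFQ : Nat.card F * F.relIndex Q = 8 := by
      rw [← D.card, ← relIndex_bot_left F, ← relIndex_bot_left Q]
      exact relIndex_mul_relIndex _ _ _ bot_le inf_le_right
    have hidx : (F.subgroupOf Q).index ≤ 2 := by
      show F.relIndex Q ≤ 2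
      nlinarith
    have hsq : ∀ q : Q, ∀ q' : Q, (q : C ⧸ O) ∉ F → (q' : C ⧸ O) ∉ F →
        (q : C ⧸ O) * q' ∈ F := by
      intro q q' hq hq'
      have h2 : (F.subgroupOf Q).index = 2 := by
        have h0 : (F.subgroupOf Q).index ≠ 0 := index_ne_zero_of_finite
        have h1 : (F.subgroupOf Q).index ≠ 1 := fun h => hq (by
          have := index_eq_one.1 h
          exact (this ▸ mem_top q : q ∈ F.subgroupOf Q))
        omega
      exact (mul_mem_iff_of_index_two h2 (a := q) (b := q')).2 (iff_of_false hq hq')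
    refine hxQ (D.cent (mem_centralizer_iff.2 fun q hq => ?_))
    by_cases hqF : q ∈ F
    · exact mem_centralizer_singleton_iff.1 hqF.1
    set q' : C ⧸ O := y * q * y⁻¹ with hq'
    have hq'Q : q' ∈ Q := D.normal.conj_mem q hq y
    have hyK : y ∈ K := mem_centralizer_singleton_iff.2 rfl
    have hq'F : q' ∉ F := fun h => hqF ⟨by
      have := mul_mem (mul_mem (inv_mem hyK) h.1) hyK
      simpa [hq', mul_assoc] using this, hq⟩
    set e := q' * q⁻¹ with he
    have hef : e ∈ F := hsq ⟨q', hq'Q⟩ ⟨q⁻¹, inv_mem hq⟩ hq'F (fun h => hqF (inv_mem_iff.1 h))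
    have hey : Commute e y := mem_centralizer_singleton_iff.1 hef.1
    have hyq : y * q * y⁻¹ = e * q := by rw [he, hq', inv_mul_cancel_right]
    have hpow : ∀ k : ℕ, y ^ k * q * (y ^ k)⁻¹ = e ^ k * q := by
      intro k
      induction k with
      | zero => simp
      | succ k ih =>
        calc y ^ (k + 1) * q * (y ^ (k + 1))⁻¹ = y * (y ^ k * q * (y ^ k)⁻¹) * y⁻¹ := by
              rw [pow_succ']; group
          _ = (y * e ^ k * y⁻¹) * (y * q * y⁻¹) := by rw [ih]; group
          _ = e ^ (k + 1) * q := by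
              rw [← (hey.pow_left k).eq, mul_inv_cancel_right, hyq, ← mul_assoc, ← pow_succ]
    have h3 := hpow 3
    rw [← hy3, pow_orderOf_eq_one, one_mul, inv_one, mul_one, right_eq_mul, hy3] at h3
    have hd3 : orderOf e ∣ 3 := orderOf_dvd_of_pow_eq_one h3
    have hd8 : orderOf e ∣ 8 := by
      have := orderOf_dvd_natCard (⟨e, hef.2⟩ : Q)
      rwa [Subgroup.orderOf_mk, D.card] at this
    have he1 : e = 1 := orderOf_eq_one_iff.1 (Nat.eq_one_of_dvd_coprimes
      (show Nat.Coprime 3 8 by norm_num) hd3 hd8)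
    rw [he1, one_mul] at hyq
    exact (mul_inv_eq_iff_eq_mul.1 hyq).symm
  · intro hcj
    obtain ⟨g, hg⟩ := isConj_iff.1 hcj
    have hq3 : Nat.card ((C ⧸ O) ⧸ Q) = 3 := D.index
    haveI : IsCyclic ((C ⧸ O) ⧸ Q) := isCyclic_of_prime_card hq3
    obtain ⟨w, hw⟩ := IsCyclic.exists_generator (α := (C ⧸ O) ⧸ Q)
    obtain ⟨i, hi⟩ := hw (QuotientGroup.mk' Q g)
    obtain ⟨j, hj⟩ := hw (QuotientGroup.mk' Q (x : C ⧸ O))
    have h := congrArg (QuotientGroup.mk' Q) hg
    simp only [map_mul, map_inv] at h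
    simp only [] at hi hj
    rw [← hi, ← hj, ((Commute.refl w).zpow_zpow i j).eq, mul_inv_cancel_right,
      eq_inv_iff_mul_eq_one, hj, ← map_mul] at h
    have h2 : (x : C ⧸ O) * (x : C ⧸ O) ∈ Q := (QuotientGroup.eq_one_iff _).1 h
    refine hQord _ h2 ?_
    rw [← pow_two, orderOf_pow, hxc, hz]
    norm_num

end Cfsg.Lib.E8Cent
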