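import Cfsg.Agent.Lib.Fusion.Abelian
import Cfsg.Agent.Lib.Local.JComp.SmallAction
import Mathlib.GroupTheory.Perm.Cycle.Type

/-!
# The automizer of an elementary abelian Sylow 2-subgroup of order eight
-/

set_option autoImplicit false
set_option linter.style.haveILetI false

namespace Cfsg.Lib.E8Cent

open Subgroup Cfsg
open scoped IsMulCommutative

universe u

variable {G : Type u} [Group G] [Finite G]

theorem card_mulAut_eight {M : Subgroup G} (hM : IsElementaryAbelian 2 M) (h8 : Nat.card M = 8) :
    Nat.card (MulAut M) ∣ 168 := by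
  haveI := hM.1
  letI : CommGroup M := { (inferInstance : Group M) with mul_comm := fun a b => hM.1.1.comm a b }
  haveI : Fact (Nat.Prime 2) := ⟨Nat.prime_two⟩
  letI : Module (ZMod 2) (Additive M) := AddCommGroup.zmodModule (n := 2) fun x => by
    obtain ⟨⟨y, hy⟩, rfl⟩ := Additive.ofMul.surjective x
    rw [← ofMul_pow]
    have : (⟨y, hy⟩ : M) ^ 2 = 1 := Subtype.ext (hM.2 y hy)
    rw [this, ofMul_one]
  haveI : Finite (Additive M) := inferInstanceAs (Finite M)
  set d := Module.finrank (ZMod 2) (Additive M) with hd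
  have hcard : Nat.card M = 2 ^ d := by
    have h := Module.natCard_eq_pow_finrank (K := ZMod 2) (V := Additive M)
    rw [Nat.card_zmod, ← hd] at h
    exact h
  have hd3 : d = 3 := Nat.pow_right_injective (le_refl 2) (hcard.symm.trans h8)
  let f : MulAut M →* (Additive M ≃ₗ[ZMod 2] Additive M) :=
    { toFun := fun g => (MulEquiv.toAdditive g).toLinearEquiv
        fun c x => ZMod.map_smul (MulEquiv.toAdditive g).toAddMonoidHom c x
      map_one' := by ext x; rfl
      map_mul' := fun a b => by ext x; rfl }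
  have hf : Function.Injective f := by
    intro a b h
    ext x
    exact congrArg Subtype.val
      (congrArg Additive.toMul (LinearEquiv.congr_fun h (Additive.ofMul x)))
  haveI : Finite (Additive M ≃ₗ[ZMod 2] Additive M) := Finite.of_injective _ DFunLike.coe_injective
  have hdvd := Subgroup.card_dvd_of_injective f hf
  let b := Module.finBasis (ZMod 2) (Additive M)
  have h : Nat.card (Additive M ≃ₗ[ZMod 2] Additive M) = Nat.card (GL (Fin d) (ZMod 2)) :=
    (Nat.card_congr (LinearMap.GeneralLinearGroup.generalLinearEquiv (ZMod 2) (Additive M)).toEquiv).symm.trans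
      (Nat.card_congr (Units.mapEquiv (LinearMap.toMatrixAlgEquiv b).toMulEquiv).toEquiv)
  rw [h, Matrix.card_GL_field, ZMod.card] at hdvd
  refine hdvd.trans ?_
  rw [hd3]
  simp [Fin.prod_univ_succ]

variable (S : Sylow 2 G)

/-- The automizer of `S`, as a group of automorphisms of `S`. -/
noncomputable def automizer : Subgroup (MulAut (S : Subgroup G)) :=
  (S : Subgroup G).normalizerMonoidHom.range

theorem card_automizer :
    Nat.card (automizer S) = (centralizer ((S : Subgroup G) : Set G)).relIndex
      (normalizer ((S : Subgroup G) : Set G)) := by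
  rw [relIndex, automizer, ← Subgroup.index_ker, normalizerMonoidHom_ker]

theorem mem_automizer_iff {a : MulAut (S : Subgroup G)} :
    a ∈ automizer S ↔ ∃ n ∈ normalizer ((S : Subgroup G) : Set G),
      ∀ s : (S : Subgroup G), (a s : G) = n * s * n⁻¹ := by
  constructor
  · rintro ⟨n, rfl⟩
    exact ⟨n, n.2, fun s => rfl⟩
  · rintro ⟨n, hn, h⟩
    exact ⟨⟨n, hn⟩, by ext s; exact (h s).symm⟩

variable {S} [hab : IsMulCommutative (S : Subgroup G)]
  (hG : ¬ IsMulCommutative G) (h8 : Nat.card (S : Subgroup G) = 8)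
  (hel : IsElementaryAbelian 2 (S : Subgroup G))

include h8 hel in
theorem card_automizer_dvd : Nat.card (automizer S) ∣ 21 := by
  haveI : Fact (Nat.Prime 2) := ⟨Nat.prime_two⟩
  have h168 : Nat.card (automizer S) ∣ 168 :=
    (Subgroup.card_subgroup_dvd_card _).trans (card_mulAut_eight hel h8)
  have hSC : (S : Subgroup G) ≤ centralizer ((S : Subgroup G) : Set G) :=
    le_centralizer_iff_isMulCommutative.2 hab
  have hCN := centralizer_le_normalizer ((S : Subgroup G) : Set G)
  have hdvd : Nat.card (automizer S) ∣ (S : Subgroup G).index := by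
    rw [card_automizer, ← relIndex_mul_index (hSC.trans hCN),
      ← relIndex_mul_relIndex _ _ _ hSC hCN]
    exact Dvd.dvd.mul_right (Dvd.intro_left _ rfl) _
  have hodd : ¬ 2 ∣ Nat.card (automizer S) := fun h => S.not_dvd_index (h.trans hdvd)
  have hcop : (Nat.card (automizer S)).Coprime (2 ^ 3) :=
    Nat.Coprime.pow_right 3 ((Nat.Prime.coprime_iff_not_dvd Nat.prime_two).2 hodd).symm
  exact hcop.dvd_of_dvd_mul_left (show Nat.card (automizer S) ∣ 2 ^ 3 * 21 from h168)

variable [IsSimpleGroup G] in
include hG in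
theorem commutator_normalizer_eq :
    ⁅(S : Subgroup G), normalizer ((S : Subgroup G) : Set G)⁆ = (S : Subgroup G) := by
  haveI : Fact (Nat.Prime 2) := ⟨Nat.prime_two⟩
  have htop : commutator G = ⊤ := by
    rcases IsSimpleGroup.eq_bot_or_eq_top_of_normal (commutator G) inferInstance with h | h
    · refine absurd ⟨⟨fun a b => ?_⟩⟩ hG
      exact commutatorElement_eq_one_iff_mul_comm.1 (by
        rw [← mem_bot, ← h, commutator_def]
        exact commutator_mem_commutator (mem_top a) (mem_top b))
    · exact h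
  rw [← Cfsg.Lib.Fusion.pResidual_inf_eq_of_abelian S, inf_eq_right]
  exact le_top.trans (htop ▸ Cfsg.Lib.Fusion.commutator_le_pResidual_of_abelian S)

variable [IsSimpleGroup G] in
include hG in
theorem not_fixed {s : (S : Subgroup G)} (hs : s ≠ 1) (hodd : ¬ 2 ∣ Nat.card (automizer S))
    (h2 : s ^ 2 = 1) : ∃ a ∈ automizer S, a s ≠ s := by
  classical
  by_contra hcon
  push Not at hcon
  haveI := Fintype.ofFinite (automizer S)
  let π : (S : Subgroup G) →* (S : Subgroup G) :=
    { toFun := fun v => ∏ a : automizer S, (a : MulAut (S : Subgroup G)) v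
      map_one' := Finset.prod_eq_one fun a _ => map_one _
      map_mul' := fun v w => by simp only [map_mul, Finset.prod_mul_distrib] }
  have hle : ⁅(S : Subgroup G), normalizer ((S : Subgroup G) : Set G)⁆ ≤
      π.ker.map (S : Subgroup G).subtype := by
    rw [commutator_le]
    intro v hv n hn
    obtain ⟨a, ha⟩ : ∃ a : automizer S, ∀ w : (S : Subgroup G),
        ((a : MulAut (S : Subgroup G)) w : G) = n * w * n⁻¹ :=
      ⟨⟨_, ⟨⟨n, hn⟩, rfl⟩⟩, fun w => rfl⟩
    set a' : MulAut (S : Subgroup G) := (a : MulAut (S : Subgroup G)) with ha'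
    refine ⟨(⟨v, hv⟩ : (S : Subgroup G)) * a' ⟨v, hv⟩⁻¹, ?_, ?_⟩
    · show π (_ * _) = 1
      rw [map_mul, show π (a' ⟨v, hv⟩⁻¹) = π ⟨v, hv⟩⁻¹ from
        Fintype.prod_equiv (Equiv.mulRight a) _ _ fun b => by
          simp [ha', MulAut.mul_apply], ← map_mul, mul_inv_cancel, map_one]
    · simp [ha, commutatorElement_def, mul_assoc]
  rw [commutator_normalizer_eq hG] at hle
  obtain ⟨w, hw, hws⟩ := hle s.2
  obtain rfl : w = s := Subtype.ext hws
  have hw' : ∏ a : automizer S, (a : MulAut (S : Subgroup G)) w = 1 := hw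
  rw [Finset.prod_congr rfl (fun (a : automizer S) _ => hcon a a.2), Finset.prod_const,
    Finset.card_univ, ← Nat.card_eq_fintype_card] at hw'
  obtain ⟨m, hm⟩ : ∃ m, Nat.card (automizer S) = 2 * m + 1 :=
    Nat.odd_iff.2 (Nat.two_dvd_ne_zero.1 hodd)
  rw [hm, pow_succ, pow_mul, h2, one_pow, one_mul] at hw'
  exact hs hw'

variable [IsSimpleGroup G] in
include hG h8 hel in
/-- The automizer has order 7 or 21. -/
theorem seven_dvd_automizer : 7 ∣ Nat.card (automizer S) := by
  haveI : Fact (Nat.Prime 3) := ⟨Nat.prime_three⟩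
  have h21 := card_automizer_dvd h8 hel
  by_contra h7
  have h3 : Nat.card (automizer S) ∣ 3 :=
    ((Nat.Prime.coprime_iff_not_dvd (by norm_num)).2 h7).symm.dvd_of_dvd_mul_left
      (show Nat.card (automizer S) ∣ 7 * 3 from h21)
  have hp : IsPGroup 3 (automizer S) := by
    rcases (Nat.dvd_prime Nat.prime_three).1 h3 with h | h
    · exact IsPGroup.of_card (n := 0) (by simpa using h)
    · exact IsPGroup.of_card (n := 1) (by simpa using h)
  have hmod := hp.card_modEq_card_fixedPoints (S : Subgroup G)
  rw [h8] at hmod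
  obtain ⟨s, hs, hs1⟩ : ∃ s ∈ MulAction.fixedPoints (automizer S) (S : Subgroup G), s ≠ 1 := by
    by_contra hcon
    push Not at hcon
    have : MulAction.fixedPoints (automizer S) (S : Subgroup G) = {1} :=
      Set.Subset.antisymm hcon (by rintro _ rfl; intro a; exact map_one _)
    rw [this] at hmod
    simp [Nat.ModEq] at hmod
  obtain ⟨a, ha, ha'⟩ := not_fixed hG hs1 (fun h => by have := h.trans h21; omega)
    (Subtype.ext (hel.2 s s.2))
  exact ha' (hs ⟨a, ha⟩)

include h8 hel in
theorem transitive_of_seven (h7 : 7 ∣ Nat.card (automizer S)) {s t : (S : Subgroup G)}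
    (hs : s ≠ 1) (ht : t ≠ 1) : ∃ a : automizer S, a • t = s := by
  classical
  haveI : Fact (Nat.Prime 7) := ⟨by norm_num⟩
  obtain ⟨a, ha⟩ := exists_prime_orderOf_dvd_card' (G := automizer S) 7 h7
  have hp : IsPGroup 7 (zpowers a) := IsPGroup.of_card (n := 1) (by simpa using ha)
  let F : Subgroup (S : Subgroup G) :=
    { carrier := MulAction.fixedPoints (zpowers a) (S : Subgroup G)
      one_mem' := fun _ => map_one _
      mul_mem' := fun {x y} hx hy b => by
        show ((b : automizer S) : MulAut (S : Subgroup G)) (x * y) = x * y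
        rw [map_mul]
        exact congrArg₂ (· * ·) (hx b) (hy b)
      inv_mem' := fun {x} hx b => by
        show ((b : automizer S) : MulAut (S : Subgroup G)) x⁻¹ = x⁻¹
        rw [map_inv]
        exact congrArg _ (hx b) }
  have hmod := hp.card_modEq_card_fixedPoints (S : Subgroup G)
  have hFd : Nat.card F ∣ 2 ^ 3 := (card_subgroup_dvd_card F).trans (by rw [h8]; norm_num)
  rw [h8, show Nat.card (MulAction.fixedPoints (zpowers a) (S : Subgroup G)) = Nat.card F from rfl]
    at hmod
  obtain ⟨i, hi, hF⟩ := (Nat.dvd_prime_pow Nat.prime_two).1 hFd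
  have hF1 : F = ⊥ := by
    rw [hF] at hmod
    rcases (show i = 0 ∨ i = 3 by interval_cases i <;> simp_all [Nat.ModEq]) with rfl | rfl
    · exact eq_bot_of_card_eq F (by simpa using hF)
    · have htop : F = ⊤ := by
        rw [← card_eq_iff_eq_top, hF, h8]
        norm_num
      have : a = 1 := Subtype.ext (MulEquiv.ext fun x =>
        (show x ∈ F from htop ▸ mem_top x) ⟨a, mem_zpowers a⟩)
      rw [this, orderOf_one] at ha
      norm_num at ha
  have hstab : MulAction.stabilizer (zpowers a) t = ⊥ := by
    by_contra hne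
    have hcard : Nat.card (zpowers a) = 7 := by rw [Nat.card_zpowers, ha]
    haveI : Fact (Nat.card (zpowers a)).Prime := ⟨by rw [hcard]; exact Fact.out⟩
    rcases (MulAction.stabilizer (zpowers a) t).eq_bot_or_eq_top_of_prime_card with h | h
    · exact hne h
    · refine ht (mem_bot.1 (hF1 ▸ (fun b => ?_ : t ∈ F)))
      exact MulAction.mem_stabilizer_iff.1 (h ▸ mem_top b)
  have hcard : Nat.card (MulAction.orbit (zpowers a) t) = 7 := by
    rw [Nat.card_coe_set_eq, ← MulAction.index_stabilizer, hstab, index_bot, Nat.card_zpowers, ha]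
  have hsub : MulAction.orbit (zpowers a) t ⊆ {x | x ≠ 1} := by
    rintro _ ⟨b, rfl⟩ hb
    exact ht ((b : automizer S).1.injective (hb.trans (map_one _).symm))
  have heq : MulAction.orbit (zpowers a) t = {x | x ≠ 1} := by
    refine Set.eq_of_subset_of_ncard_le hsub ?_
    have h1 : ({x | x ≠ 1} : Set (S : Subgroup G)) = {1}ᶜ := rfl
    rw [h1, Set.ncard_compl, Set.ncard_singleton, h8]
    rw [Nat.card_coe_set_eq] at hcard
    rw [hcard]
  obtain ⟨b, hb⟩ := (heq ▸ hs : s ∈ MulAction.orbit (zpowers a) t)
  exact ⟨b, hb⟩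

include h8 hel in
theorem card_stabilizer_of_21 (h21 : Nat.card (automizer S) = 21) {t : (S : Subgroup G)}
    (ht : t ≠ 1) : Nat.card (MulAction.stabilizer (automizer S) t) = 3 := by
  have horb : MulAction.orbit (automizer S) t = {x | x ≠ 1} := by
    refine Set.Subset.antisymm ?_ fun s hs => ?_
    · rintro _ ⟨b, rfl⟩ hb
      exact ht (b.1.injective (hb.trans (map_one _).symm))
    · exact transitive_of_seven h8 hel (h21 ▸ by norm_num) hs ht
  have h := MulAction.index_stabilizer (automizer S) t
  have h1 : ({x | x ≠ 1} : Set (S : Subgroup G)) = {1}ᶜ := rfl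
  rw [horb, h1, Set.ncard_compl, Set.ncard_singleton, h8] at h
  have hm := card_mul_index (MulAction.stabilizer (automizer S) t)
  rw [h, h21] at hm
  omega

end Cfsg.Lib.E8Cent
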